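import Mathlib
import Cfsg.Prelude.Def_LinearParabolics

/-!
Permutation matrices in `GL_n(F)` and the Bruhat decomposition `G = B W B` (Gaussian elimination).
-/

set_option autoImplicit false

namespace Cfsg.Agent.Lib.GLFlag

open Finset Cfsg

variable {n : ℕ} {F : Type*} [Field F]

/-- The permutation matrix of `w`: column `j` has a one in row `w j`. -/
def permM (F : Type*) [Field F] (w : Equiv.Perm (Fin n)) : Matrix (Fin n) (Fin n) F :=
  Matrix.of fun i j => if i = w j then 1 else 0

lemma permM_mul (w w' : Equiv.Perm (Fin n)) : permM F w * permM F w' = permM F (w * w') := by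
  ext i j
  rw [Matrix.mul_apply]
  simp only [permM, Matrix.of_apply, mul_ite, mul_one, mul_zero, Equiv.Perm.mul_apply]
  rw [Finset.sum_eq_single (w' j)]
  · simp only [if_true]
    congr
  · intro b _ hb
    rw [if_neg hb]
  · simp

lemma permM_one : permM F (1 : Equiv.Perm (Fin n)) = 1 := by
  ext i j
  simp only [permM, Matrix.of_apply, Equiv.Perm.one_apply, Matrix.one_apply]
  congr

/-- The permutation matrix as an element of `GL`. -/
def permGL (F : Type*) [Field F] : Equiv.Perm (Fin n) →* GL (Fin n) F :=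
  MonoidHom.toHomUnits
    { toFun := permM F
      map_one' := permM_one
      map_mul' := fun a b => (permM_mul a b).symm }

@[simp] lemma permGL_coe (w : Equiv.Perm (Fin n)) :
    ((permGL F w : GL (Fin n) F) : Matrix (Fin n) (Fin n) F) = permM F w := rfl

lemma exists_GL_of_ut (A : Matrix (Fin n) (Fin n) F) (hut : ∀ i k, k < i → A i k = 0)
    (hd : ∀ i, A i i = 1) :
    ∃ u : GL (Fin n) F, u ∈ upperTriangularGL n F ∧ (u : Matrix (Fin n) (Fin n) F) = A := by
  have hdet : A.det = 1 := by
    rw [Matrix.det_of_upperTriangular (fun i k hik => hut i k hik)]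
    simp [hd]
  have hu : IsUnit A := (Matrix.isUnit_iff_isUnit_det A).2 (by rw [hdet]; exact isUnit_one)
  obtain ⟨u, rfl⟩ := hu
  exact ⟨u, fun i k hik => hut i k hik, rfl⟩

/-- The elementary left factor. -/
def elimL (i₀ : Fin n) (c : Fin n → F) : Matrix (Fin n) (Fin n) F :=
  Matrix.of fun i k => if i = k then 1 else if k = i₀ ∧ i < i₀ then - c i else 0

lemma elimL_mul (i₀ : Fin n) (c : Fin n → F) (h : Matrix (Fin n) (Fin n) F) (i j : Fin n) :
    (elimL i₀ c * h) i j = h i j + (if i < i₀ then - c i * h i₀ j else 0) := by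
  rw [Matrix.mul_apply]
  have e : ∀ k, elimL i₀ c i k * h k j =
      (if i = k then h k j else 0) + (if k = i₀ then (if i < i₀ then - c i * h k j else 0) else 0) := by
    intro k
    simp only [elimL, Matrix.of_apply]
    by_cases h1 : i = k
    · subst h1
      by_cases h2 : i = i₀
      · subst h2; simp
      · simp [h2]
    · by_cases h2 : k = i₀
      · subst h2
        by_cases h3 : i < k
        · simp [h1, h3]
        · simp [h1, h3]
      · simp [h1, h2]
  simp_rw [e]
  rw [sum_add_distrib, sum_ite_eq, sum_ite_eq']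
  simp

lemma elimL_ut (i₀ : Fin n) (c : Fin n → F) (i k : Fin n) (hik : k < i) : elimL i₀ c i k = 0 := by
  simp only [elimL, Matrix.of_apply]
  rw [if_neg (ne_of_gt hik), if_neg]
  rintro ⟨rfl, h⟩
  exact absurd hik (not_lt.2 h.le)

lemma elimL_diag (i₀ : Fin n) (c : Fin n → F) (i : Fin n) : elimL i₀ c i i = 1 := by
  simp [elimL]

/-- The elementary right factor. -/
def elimR (j₀ : Fin n) (d : Fin n → F) : Matrix (Fin n) (Fin n) F :=
  Matrix.of fun k j => if k = j then 1 else if k = j₀ ∧ j₀ < j then - d j else 0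

lemma mul_elimR (j₀ : Fin n) (d : Fin n → F) (h : Matrix (Fin n) (Fin n) F) (i j : Fin n) :
    (h * elimR j₀ d) i j = h i j + (if j₀ < j then h i j₀ * - d j else 0) := by
  rw [Matrix.mul_apply]
  have e : ∀ k, h i k * elimR j₀ d k j =
      (if k = j then h i k else 0) + (if k = j₀ then (if j₀ < j then h i k * - d j else 0) else 0) := by
    intro k
    simp only [elimR, Matrix.of_apply]
    by_cases h1 : k = j
    · subst h1
      by_cases h2 : k = j₀
      · subst h2; simp
      · simp [h2]
    · by_cases h2 : k = j₀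
      · subst h2
        by_cases h3 : k < j
        · simp [h1, h3]
        · simp [h1, h3]
      · simp [h1, h2]
  simp_rw [e]
  rw [sum_add_distrib, sum_ite_eq', sum_ite_eq']
  simp

lemma elimR_ut (j₀ : Fin n) (d : Fin n → F) (i k : Fin n) (hik : k < i) : elimR j₀ d i k = 0 := by
  simp only [elimR, Matrix.of_apply]
  rw [if_neg (ne_of_gt hik), if_neg]
  rintro ⟨rfl, h⟩
  exact absurd hik (not_lt.2 h.le)

lemma elimR_diag (j₀ : Fin n) (d : Fin n → F) (i : Fin n) : elimR j₀ d i i = 1 := by
  simp [elimR]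

/-- Rows from `t` on are monomial and their pivots are alone in their columns. -/
def GoodFrom (t : ℕ) (h : Matrix (Fin n) (Fin n) F) : Prop :=
  ∀ i : Fin n, t ≤ i.val → ∃ j, h i j ≠ 0 ∧ (∀ j', j' ≠ j → h i j' = 0) ∧ (∀ i', i' ≠ i → h i' j = 0)

lemma row_ne_zero (h : GL (Fin n) F) (i : Fin n) : ∃ j, (h : Matrix (Fin n) (Fin n) F) i j ≠ 0 := by
  by_contra hc
  push Not at hc
  have h1 : ((h : Matrix (Fin n) (Fin n) F) * ((h⁻¹ : GL (Fin n) F) : Matrix (Fin n) (Fin n) F)) i i = 1 := by
    rw [← Units.val_mul, mul_inv_cancel]; simp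
  rw [Matrix.mul_apply] at h1
  simp [hc] at h1

lemma exists_goodFrom_step (g : GL (Fin n) F) (t : ℕ) (ht : t < n)
    (H : ∃ u v : GL (Fin n) F, u ∈ upperTriangularGL n F ∧ v ∈ upperTriangularGL n F ∧
      GoodFrom (t + 1) ((u * g * v : GL (Fin n) F) : Matrix (Fin n) (Fin n) F)) :
    ∃ u v : GL (Fin n) F, u ∈ upperTriangularGL n F ∧ v ∈ upperTriangularGL n F ∧
      GoodFrom t ((u * g * v : GL (Fin n) F) : Matrix (Fin n) (Fin n) F) := by
  classical
  obtain ⟨u, v, hu, hv, hgood⟩ := H
  set hh : GL (Fin n) F := u * g * v with hhh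
  set h : Matrix (Fin n) (Fin n) F := (hh : Matrix (Fin n) (Fin n) F) with hhm
  let i₀ : Fin n := ⟨t, ht⟩
  -- the leftmost nonzero entry of row `i₀`
  have hne : (univ.filter fun j => h i₀ j ≠ 0).Nonempty := by
    obtain ⟨j, hj⟩ := row_ne_zero hh i₀
    exact ⟨j, by simpa using hj⟩
  let j₀ : Fin n := (univ.filter fun j => h i₀ j ≠ 0).min' hne
  have hj₀ : h i₀ j₀ ≠ 0 := by
    have := min'_mem _ hne
    simpa using this
  have hmin : ∀ j, j < j₀ → h i₀ j = 0 := by
    intro j hj
    by_contra hc
    have : j₀ ≤ j := min'_le _ _ (by simpa using hc)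
    exact absurd hj (not_lt.2 this)
  let c : Fin n → F := fun i => h i j₀ / h i₀ j₀
  let d : Fin n → F := fun j => h i₀ j / h i₀ j₀
  obtain ⟨L, hL, hLc⟩ := exists_GL_of_ut (elimL i₀ c) (elimL_ut i₀ c) (elimL_diag i₀ c)
  obtain ⟨R, hR, hRc⟩ := exists_GL_of_ut (elimR j₀ d) (elimR_ut j₀ d) (elimR_diag j₀ d)
  refine ⟨L * u, v * R, mul_mem hL hu, mul_mem hv hR, ?_⟩
  have hcoe : ((L * u * g * (v * R) : GL (Fin n) F) : Matrix (Fin n) (Fin n) F) =
      elimL i₀ c * h * elimR j₀ d := by
    have : L * u * g * (v * R) = L * hh * R := by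
      simp only [hhh]; group
    rw [this, Units.val_mul, Units.val_mul, hLc, hRc]
  rw [hcoe]
  -- entries of the new matrix
  have hent : ∀ i j, (elimL i₀ c * h * elimR j₀ d) i j =
      (h i j + (if i < i₀ then - c i * h i₀ j else 0)) +
        (if j₀ < j then (h i j₀ + (if i < i₀ then - c i * h i₀ j₀ else 0)) * - d j else 0) := by
    intro i j
    rw [mul_elimR, elimL_mul, elimL_mul]
  -- facts on the later rows
  have hlate : ∀ i : Fin n, t + 1 ≤ i.val → h i j₀ = 0 := by
    intro i hi
    obtain ⟨j, hj, hrow, hcol⟩ := hgood i hi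
    apply hrow
    rintro rfl
    exact hj₀ (hcol i₀ (by intro hc; rw [← hc] at hi; simp [i₀] at hi))
  have hcj₀ : ∀ i, i < i₀ → h i j₀ + - c i * h i₀ j₀ = 0 := by
    intro i _
    simp only [c]
    field_simp
    ring
  intro i hi
  rcases Nat.lt_or_ge t i.val with hit | hit
  · -- later row: unchanged
    obtain ⟨j, hj, hrow, hcol⟩ := hgood i hit
    have hij₀ : h i j₀ = 0 := hlate i hit
    have hnlt : ¬ i < i₀ := by
      intro hc
      have : i.val < t := hc
      omega
    have hi₀j : h i₀ j = 0 := hcol i₀ (by intro hc; rw [← hc] at hit; simp [i₀] at hit)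
    refine ⟨j, ?_, ?_, ?_⟩
    · rw [hent]
      simp only [hnlt, if_false, add_zero, hij₀, zero_mul]
      simpa using hj
    · intro j' hj'
      rw [hent]
      simp only [hnlt, if_false, add_zero, hij₀, zero_mul]
      simp [hrow j' hj']
    · intro i' hi'
      rw [hent]
      have hd0 : d j = 0 := by simp [d, hi₀j]
      simp only [hd0, neg_zero, mul_zero, ite_self, add_zero]
      rw [hcol i' hi', hi₀j]
      simp
  · -- the new row `i₀`
    have hii₀ : i = i₀ := by
      apply Fin.ext
      show i.val = t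
      omega
    subst hii₀
    have hnlt : ¬ i₀ < i₀ := lt_irrefl _
    refine ⟨j₀, ?_, ?_, ?_⟩
    · rw [hent]
      simp [hj₀]
    · intro j' hj'
      rw [hent]
      simp only [hnlt, if_false, add_zero]
      rcases lt_or_gt_of_ne hj' with hlt | hgt
      · rw [if_neg (not_lt.2 hlt.le)]
        simp [hmin j' hlt]
      · rw [if_pos hgt]
        simp only [d]
        field_simp
        ring
    · intro i' hi'
      rw [hent]
      simp only [lt_irrefl, if_false, add_zero]
      rcases lt_or_gt_of_ne hi' with hlt | hgt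
      · rw [if_pos hlt]
        exact hcj₀ i' hlt
      · rw [if_neg (not_lt.2 hgt.le)]
        have : t + 1 ≤ i'.val := hgt
        simp [hlate i' this]

lemma exists_goodFrom (g : GL (Fin n) F) (s t : ℕ) (hs : s + t = n) :
    ∃ u v : GL (Fin n) F, u ∈ upperTriangularGL n F ∧ v ∈ upperTriangularGL n F ∧
      GoodFrom t ((u * g * v : GL (Fin n) F) : Matrix (Fin n) (Fin n) F) := by
  induction s generalizing t with
  | zero =>
    refine ⟨1, 1, one_mem _, one_mem _, ?_⟩
    intro i hi
    have : i.val < n := i.2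
    omega
  | succ s ih =>
    apply exists_goodFrom_step g t (by omega)
    exact ih (t + 1) (by omega)

/-- Bruhat decomposition of `GL_n(F)`. -/
theorem exists_bruhat (g : GL (Fin n) F) :
    ∃ (u v : GL (Fin n) F) (w : Equiv.Perm (Fin n)), u ∈ upperTriangularGL n F ∧
      v ∈ upperTriangularGL n F ∧ g = u * permGL F w * v := by
  classical
  obtain ⟨u, v, hu, hv, hgood⟩ := exists_goodFrom g n 0 (by simp)
  set hh : GL (Fin n) F := u * g * v with hhh
  choose f hf hrow hcol using fun i : Fin n => hgood i (Nat.zero_le _)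
  have hinj : Function.Injective f := by
    intro i i' hii'
    by_contra hne
    exact hf i' (by
      have := hcol i i' (Ne.symm hne)
      rwa [hii'] at this)
  let w : Equiv.Perm (Fin n) := (Equiv.ofBijective f (Finite.injective_iff_bijective.1 hinj)).symm
  have hfw : ∀ j, f (w j) = j := fun j => (Equiv.ofBijective f _).apply_symm_apply j
  have hwf : ∀ i, w (f i) = i := fun i => (Equiv.ofBijective f _).symm_apply_apply i
  -- the diagonal factor
  let D : GL (Fin n) F := (permGL F w)⁻¹ * hh
  have hDe : ∀ i j, (D : Matrix (Fin n) (Fin n) F) i j = (hh : Matrix (Fin n) (Fin n) F) (w i) j := by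
    intro i j
    have h1 : ((permGL F w)⁻¹ : GL (Fin n) F) = permGL F w⁻¹ := (map_inv _ _).symm
    simp only [D, Units.val_mul, h1, permGL_coe]
    rw [Matrix.mul_apply]
    rw [Finset.sum_eq_single (w i)]
    · simp [permM]
    · intro b _ hb
      simp only [permM, Matrix.of_apply]
      rw [if_neg, zero_mul]
      intro hc
      apply hb
      rw [hc]
      simp
    · simp
  have hD : D ∈ upperTriangularGL n F := by
    intro i j hij
    rw [hDe]
    apply hrow
    rw [hfw]
    exact ne_of_lt hij
  refine ⟨u⁻¹, D * v⁻¹, w, inv_mem hu, mul_mem hD (inv_mem hv), ?_⟩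
  simp only [D, hhh]
  group

end Cfsg.Agent.Lib.GLFlag
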