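import Mathlib

/-!
Bialternant / Jacobi–Trudi identity, and its coefficient form:
`∑ κ τ, sgn κ sgn τ · #{matrices with row sums λ-κ, column sums l-τ} = ∑ σ, sgn σ [l ∘ σ = λ]`.
-/

set_option autoImplicit false

namespace Cfsg.Agent.Lib.GLFlag

open Finset

variable {n : ℕ}

/-- Number of `n × n` matrices over `ℕ` (given by their columns `p j`) with column sums `β` and
row sums `α`. -/
noncomputable def matCount (α β : Fin n → ℕ) : ℕ :=
  ((Fintype.piFinset fun j : Fin n => piAntidiag (univ : Finset (Fin n)) (β j)).filter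
    (fun p => ∀ i, ∑ j, p j i = α i)).card

section GF

variable {R : Type*} [CommRing R]

/-- The geometric series `1/(1 - a t)`. -/
noncomputable def geo (a : R) : PowerSeries R := PowerSeries.mk fun k => a ^ k

lemma geo_mul (a : R) : geo a * (1 - PowerSeries.C a * PowerSeries.X) = 1 := by
  ext k
  rw [mul_sub, mul_one, map_sub, geo, PowerSeries.coeff_mk]
  cases k with
  | zero => simp
  | succ k =>
    rw [← mul_assoc, PowerSeries.coeff_succ_mul_X, PowerSeries.coeff_one]
    rw [mul_comm (PowerSeries.mk _), PowerSeries.coeff_C_mul, PowerSeries.coeff_mk]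
    simp [pow_succ, mul_comm]

variable (x : Fin n → R)

/-- The complete homogeneous generating series. -/
noncomputable def hSeries : PowerSeries R := ∏ m, geo (x m)

/-- complete homogeneous symmetric function of degree `k`. -/
noncomputable def hh (k : ℕ) : R := PowerSeries.coeff k (hSeries x)

lemma hh_eq (k : ℕ) : hh x k = ∑ γ ∈ piAntidiag (univ : Finset (Fin n)) k, ∏ m, x m ^ γ m := by
  classical
  rw [hh, hSeries, PowerSeries.coeff_prod, finsuppAntidiag, sum_map]
  rw [← sum_attach (piAntidiag (univ : Finset (Fin n)) k) (fun γ => ∏ m, x m ^ γ m)]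
  refine sum_congr rfl fun γ _ => prod_congr rfl fun m _ => ?_
  simp [geo]

lemma hh_zero : hh x 0 = 1 := by
  rw [hh_eq]
  simp

/-- `∏_{m ≠ i} (1 - x_m t)`. -/
noncomputable def cPoly (i : Fin n) : Polynomial R :=
  ∏ m ∈ univ.erase i, (1 - Polynomial.C (x m) * Polynomial.X)

lemma hSeries_mul_cPoly (i : Fin n) :
    hSeries x * ((cPoly x i : Polynomial R) : PowerSeries R) = geo (x i) := by
  classical
  have h1 : ((cPoly x i : Polynomial R) : PowerSeries R) =
      ∏ m ∈ univ.erase i, (1 - PowerSeries.C (x m) * PowerSeries.X) := by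
    rw [cPoly, ← Polynomial.coeToPowerSeries.ringHom_apply, map_prod]
    refine prod_congr rfl fun m _ => ?_
    simp [Polynomial.coeToPowerSeries.ringHom_apply]
  have h2 : hSeries x = geo (x i) * ∏ m ∈ univ.erase i, geo (x m) := by
    rw [hSeries, mul_prod_erase univ (fun m => geo (x m)) (mem_univ i)]
  rw [h1, h2, mul_assoc, ← prod_mul_distrib]
  rw [prod_eq_one (fun m _ => geo_mul (x m)), mul_one]

lemma cPoly_coeff_eq_zero (i : Fin n) {k : ℕ} (hk : n ≤ k) : (cPoly x i).coeff k = 0 := by
  classical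
  apply Polynomial.coeff_eq_zero_of_natDegree_lt
  have hn : 0 < n := i.pos
  have : (cPoly x i).natDegree ≤ ∑ m ∈ univ.erase i, 1 := by
    refine (Polynomial.natDegree_prod_le _ _).trans (sum_le_sum fun m _ => ?_)
    refine (Polynomial.natDegree_sub_le _ _).trans ?_
    simp only [Polynomial.natDegree_one, zero_le, sup_of_le_right]
    exact (Polynomial.natDegree_C_mul_le _ _).trans Polynomial.natDegree_X_le
  simp only [sum_const, smul_eq_mul, mul_one, card_erase_of_mem (mem_univ i), card_univ,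
    Fintype.card_fin] at this
  omega

lemma sum_hh_cPoly (i : Fin n) (l : ℕ) :
    ∑ k : Fin n, (if k.val ≤ l then hh x (l - k) else 0) * (cPoly x i).coeff k = x i ^ l := by
  classical
  have h := congrArg (PowerSeries.coeff l) (hSeries_mul_cPoly x i)
  rw [PowerSeries.coeff_mul, geo, PowerSeries.coeff_mk] at h
  rw [← h, Finset.Nat.sum_antidiagonal_eq_sum_range_succ_mk]
  rw [Fin.sum_univ_eq_sum_range (fun k => (if k ≤ l then hh x (l - k) else 0) * (cPoly x i).coeff k) n]
  have e1 : ∑ k ∈ range n, (if k ≤ l then hh x (l - k) else 0) * (cPoly x i).coeff k =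
      ∑ k ∈ range (n + (l + 1)), (if k ≤ l then hh x (l - k) else 0) * (cPoly x i).coeff k := by
    apply sum_subset (range_subset_range.2 (by omega))
    intro k _ hk
    rw [cPoly_coeff_eq_zero x i (by simpa using hk), mul_zero]
  have e2 : ∑ k ∈ range (l + 1), PowerSeries.coeff (k, l - k).1 (hSeries x) *
      PowerSeries.coeff (k, l - k).2 ((cPoly x i : Polynomial R) : PowerSeries R) =
      ∑ k ∈ range (n + (l + 1)), (if k ≤ l then hh x (l - k) else 0) * (cPoly x i).coeff k := by
    have : ∑ k ∈ range (l + 1), PowerSeries.coeff (k, l - k).1 (hSeries x) *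
        PowerSeries.coeff (k, l - k).2 ((cPoly x i : Polynomial R) : PowerSeries R) =
        ∑ k ∈ range (l + 1), (if k ≤ l then hh x (l - k) else 0) * (cPoly x i).coeff k := by
      rw [← sum_range_reflect]
      refine sum_congr rfl fun k hk => ?_
      have hk' : k ≤ l := by simpa [Nat.lt_succ_iff] using hk
      have e3 : l + 1 - 1 - k = l - k := by omega
      have e4 : l - (l - k) = k := by omega
      simp only [e3, e4, if_pos hk', Polynomial.coeff_coe, hh]
    rw [this]
    apply sum_subset (range_subset_range.2 (by omega))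
    intro k _ hk
    have : ¬ k ≤ l := by simpa [Nat.lt_succ_iff] using hk
    rw [if_neg this, zero_mul]
  rw [e1, e2]

/-- The matrix of complete homogeneous polynomials. -/
noncomputable def hMat (l : Fin n → ℕ) : Matrix (Fin n) (Fin n) R :=
  Matrix.of fun j k => if k.val ≤ l j then hh x (l j - k) else 0

/-- The bialternant matrix. -/
noncomputable def aMat (l : Fin n → ℕ) : Matrix (Fin n) (Fin n) R :=
  Matrix.of fun j i => x i ^ l j

lemma aMat_eq (l : Fin n → ℕ) :
    aMat x l = hMat x l * Matrix.of fun (k i : Fin n) => (cPoly x i).coeff k := by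
  ext j i
  rw [Matrix.mul_apply]
  exact (sum_hh_cPoly x i (l j)).symm

lemma det_hMat_id : (hMat x fun j : Fin n => j.val).det = 1 := by
  rw [Matrix.det_of_lowerTriangular]
  · rw [prod_eq_one]
    intro i _
    show (if i.val ≤ i.val then hh x (i.val - i.val) else 0) = (1 : R)
    rw [if_pos le_rfl, Nat.sub_self, hh_zero]
  · intro i j hij
    have : ¬ j.val ≤ i.val := by
      have : i < j := hij
      exact Nat.not_le.mpr this
    show (if j.val ≤ i.val then _ else _) = (0 : R)
    rw [if_neg this]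

/-- Bialternant formula: `det (x_i ^ l_j) = det (h_{l_j - k}) * det (x_i ^ j)`. -/
theorem det_aMat (l : Fin n → ℕ) :
    (aMat x l).det = (hMat x l).det * (aMat x fun j : Fin n => j.val).det := by
  rw [aMat_eq x l, aMat_eq x fun j : Fin n => j.val, Matrix.det_mul, Matrix.det_mul, det_hMat_id,
    one_mul]

end GF

section Coeff

open MvPolynomial

/-- the exponent as a finsupp -/
noncomputable def mon (f : Fin n → ℕ) : Fin n →₀ ℕ := Finsupp.equivFunOnFinite.symm f

@[simp] lemma mon_apply (f : Fin n → ℕ) (i : Fin n) : mon f i = f i := rfl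

lemma mon_injective : Function.Injective (mon (n := n)) :=
  Finsupp.equivFunOnFinite.symm.injective

lemma prod_X_pow (f : Fin n → ℕ) :
    ∏ i, (X i : MvPolynomial (Fin n) ℤ) ^ f i = monomial (mon f) 1 := by
  rw [MvPolynomial.monomial_eq, Finsupp.prod_fintype _ _ (fun _ => pow_zero _)]
  simp [mon]

lemma coeff_mon_X_pow (α β : Fin n → ℕ) :
    coeff (mon α) (∏ i, (X i : MvPolynomial (Fin n) ℤ) ^ β i) = if ∀ i, β i = α i then 1 else 0 := by
  classical
  rw [prod_X_pow, coeff_monomial]
  have : mon β = mon α ↔ ∀ i, β i = α i := by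
    rw [mon_injective.eq_iff, funext_iff]
  simp [this]

lemma mon_sub (α β : Fin n → ℕ) : mon α - mon β = mon fun i => α i - β i := by
  ext i; simp

lemma mon_le (α β : Fin n → ℕ) : mon β ≤ mon α ↔ ∀ i, β i ≤ α i := by
  rw [Finsupp.le_def]; rfl

lemma coeff_prod_hh (α β : Fin n → ℕ) :
    coeff (mon α) (∏ j, hh (fun i => (X i : MvPolynomial (Fin n) ℤ)) (β j)) = matCount α β := by
  classical
  simp_rw [hh_eq]
  rw [prod_univ_sum, coeff_sum, matCount, card_filter, Nat.cast_sum]
  refine sum_congr rfl fun p _ => ?_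
  have : ∏ j, ∏ m, (X m : MvPolynomial (Fin n) ℤ) ^ p j m = ∏ m, X m ^ ∑ j, p j m := by
    rw [prod_comm]
    refine prod_congr rfl fun m _ => ?_
    rw [prod_pow_eq_pow_sum]
  rw [this, coeff_mon_X_pow]
  simp

/-- The coefficient form of the bialternant formula. -/
theorem jt_identity (l lam : Fin n → ℕ) :
    (∑ σ : Equiv.Perm (Fin n), ((Equiv.Perm.sign σ : ℤ)) * (if ∀ i, l (σ i) = lam i then 1 else 0) : ℤ) =
      ∑ κ : Equiv.Perm (Fin n), ∑ τ : Equiv.Perm (Fin n),
        (Equiv.Perm.sign κ : ℤ) * (Equiv.Perm.sign τ : ℤ) *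
          (if (∀ i, (κ i).val ≤ lam i) ∧ (∀ j, (τ j).val ≤ l j) then
            (matCount (fun i => lam i - (κ i).val) (fun j => l j - (τ j).val) : ℤ) else 0) := by
  classical
  have key := congrArg (coeff (mon lam)) (det_aMat (fun i => (X i : MvPolynomial (Fin n) ℤ)) l)
  -- the left side
  have hL : coeff (mon lam) (aMat (fun i => (X i : MvPolynomial (Fin n) ℤ)) l).det =
      ∑ σ : Equiv.Perm (Fin n), ((Equiv.Perm.sign σ : ℤ)) * (if ∀ i, l (σ i) = lam i then 1 else 0) := by
    rw [Matrix.det_apply', coeff_sum]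
    refine sum_congr rfl fun σ _ => ?_
    have : ∏ i, (aMat (fun i => (X i : MvPolynomial (Fin n) ℤ)) l) (σ i) i =
        ∏ i, (X i : MvPolynomial (Fin n) ℤ) ^ (l (σ i)) := rfl
    rw [this]
    have h2 : ((Equiv.Perm.sign σ : ℤ) : MvPolynomial (Fin n) ℤ) =
        C ((Equiv.Perm.sign σ : ℤ)) := by simp
    rw [h2, coeff_C_mul, coeff_mon_X_pow]
  rw [hL] at key
  rw [key]
  -- right side
  have hH : (hMat (fun i => (X i : MvPolynomial (Fin n) ℤ)) l).det =
      ∑ τ : Equiv.Perm (Fin n), C (Equiv.Perm.sign τ : ℤ) *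
        (if ∀ j, (τ j).val ≤ l j then
          ∏ j, hh (fun i => (X i : MvPolynomial (Fin n) ℤ)) (l j - τ j) else 0) := by
    rw [← Matrix.det_transpose, Matrix.det_apply']
    refine sum_congr rfl fun τ _ => ?_
    have h2 : ((Equiv.Perm.sign τ : ℤ) : MvPolynomial (Fin n) ℤ) =
        C ((Equiv.Perm.sign τ : ℤ)) := by simp
    rw [h2]
    congr 1
    simp only [Matrix.transpose_apply, hMat, Matrix.of_apply]
    rw [prod_ite_zero]
    simp
  have hA : (aMat (fun i => (X i : MvPolynomial (Fin n) ℤ)) fun j : Fin n => j.val).det =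
      ∑ κ : Equiv.Perm (Fin n), C (Equiv.Perm.sign κ : ℤ) *
        monomial (mon fun i => (κ i).val) (1 : ℤ) := by
    rw [Matrix.det_apply']
    refine sum_congr rfl fun κ _ => ?_
    have h2 : ((Equiv.Perm.sign κ : ℤ) : MvPolynomial (Fin n) ℤ) =
        C ((Equiv.Perm.sign κ : ℤ)) := by simp
    rw [h2, ← prod_X_pow]
    rfl
  rw [hH, hA, mul_comm, sum_mul_sum, coeff_sum]
  refine sum_congr rfl fun κ _ => ?_
  rw [coeff_sum]
  refine sum_congr rfl fun τ _ => ?_
  have e : (C (Equiv.Perm.sign κ : ℤ) * monomial (mon fun i => (κ i).val) (1 : ℤ)) *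
      (C (Equiv.Perm.sign τ : ℤ) * (if ∀ j, (τ j).val ≤ l j then
          ∏ j, hh (fun i => (X i : MvPolynomial (Fin n) ℤ)) (l j - τ j) else 0)) =
      C ((Equiv.Perm.sign κ : ℤ) * (Equiv.Perm.sign τ : ℤ)) *
        (monomial (mon fun i => (κ i).val) (1 : ℤ) * (if ∀ j, (τ j).val ≤ l j then
          ∏ j, hh (fun i => (X i : MvPolynomial (Fin n) ℤ)) (l j - τ j) else 0)) := by
    rw [C_mul]; ring
  rw [e, coeff_C_mul, coeff_monomial_mul']
  congr 1
  by_cases h1 : ∀ i, (κ i).val ≤ lam i
  · have h1' := (mon_le lam fun i => (κ i).val).2 h1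
    by_cases h2 : ∀ j, (τ j).val ≤ l j
    · rw [if_pos h1', if_pos h2, if_pos ⟨h1, h2⟩, mon_sub, one_mul, coeff_prod_hh]
    · rw [if_pos h1', if_neg h2, if_neg (fun h => h2 h.2)]
      simp
  · have h1' : ¬ (mon fun i => (κ i).val) ≤ mon lam := fun h => h1 ((mon_le lam _).1 h)
    rw [if_neg h1', if_neg (fun h => h1 h.1)]

end Coeff

end Cfsg.Agent.Lib.GLFlag
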