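import Cfsg.Agent.Lib.GLFlag.Main

/-!
The degree formula for the partition-indexed characters of `GL_n(q)`.
-/

set_option autoImplicit false

namespace Cfsg.Agent.Lib.GLFlag

open Finset Cfsg

universe u

variable {F : Type u} [Field F] [Fintype F] {n : ℕ}

/-- The falling product of `q`-integers. -/
noncomputable def falling (q k l : ℕ) : ℂ := ∏ t ∈ range k, (qInt q (l - t) : ℂ)

lemma qFac_succ (q r : ℕ) : qFac q (r + 1) = qFac q r * qInt q (r + 1) := prod_range_succ _ _

lemma qInt_zero (q : ℕ) : qInt q 0 = 0 := by simp [qInt]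

lemma qFac_eq (q k l : ℕ) (h : k ≤ l) : (qFac q l : ℂ) = qFac q (l - k) * falling q k l := by
  induction k with
  | zero => simp [falling]
  | succ k ih =>
    rw [ih (by omega), falling, falling, prod_range_succ]
    have e : l - k = (l - (k + 1)) + 1 := by omega
    rw [e, qFac_succ]
    have e2 : (l - (k + 1)) + 1 = l - k := by omega
    rw [e2]
    push_cast
    ring

lemma falling_eq_zero (q k l : ℕ) (h : l < k) : falling q k l = 0 := by
  apply prod_eq_zero (mem_range.2 h)
  simp [qInt_zero]

lemma qInt_add (q t m : ℕ) : qInt q (t + m) = qInt q t + q ^ t * qInt q m := by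
  simp only [qInt, sum_range_add, pow_add, mul_sum]

lemma pow_falling (q k l : ℕ) :
    (q : ℂ) ^ (∑ t ∈ range k, t) * falling q k l = ∏ t ∈ range k, ((qInt q l : ℂ) - qInt q t) := by
  by_cases h : k ≤ l
  · rw [falling, ← prod_pow_eq_pow_sum, ← prod_mul_distrib]
    refine prod_congr rfl fun t ht => ?_
    have ht' : t < k := mem_range.1 ht
    have e : l = t + (l - t) := by omega
    conv_rhs => rw [e]
    rw [qInt_add]
    have e2 : t + (l - t) - t = l - t := by omega
    push_cast
    ring
  · have hl : l < k := not_le.1 h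
    rw [falling_eq_zero q k l hl, mul_zero]
    symm
    apply prod_eq_zero (mem_range.2 hl)
    simp

lemma sum_sum_id (m : ℕ) : ∑ k ∈ range m, ∑ t ∈ range k, t = m * (m - 1) * (m - 2) / 6 := by
  have h : 6 * ∑ k ∈ range m, ∑ t ∈ range k, t = m * (m - 1) * (m - 2) := by
    induction m with
    | zero => simp
    | succ m ih =>
      rw [sum_range_succ, mul_add, ih]
      have h2 := sum_range_id_mul_two m
      cases m with
      | zero => simp
      | succ m =>
        cases m with
        | zero => simp
        | succ m =>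
          simp only [Nat.add_sub_cancel] at h2 ⊢
          have e1 : m + 1 + 1 + 1 - 1 = m + 2 := by omega
          have e2 : m + 1 + 1 + 1 - 2 = m + 1 := by omega
          have e3 : m + 1 + 1 - 1 = m + 1 := by omega
          have e4 : m + 1 + 1 - 2 = m := by omega
          simp only [e1, e2, e3, e4] at h2 ⊢
          nlinarith
  rw [← h, Nat.mul_div_cancel_left _ (by norm_num)]

/-- The determinant expression of the degree. -/
theorem degree_mul (q : ℕ) (hq : Fintype.card F = q) (ν : Fin n → ℕ) (hsum : ∑ i, ν i = n) :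
    unipotentCharacterGL n F ν 1 * ∏ i : Fin n, (qFac q (ν i + i.val) : ℂ) =
      qFac q n * (Matrix.of fun (i k : Fin n) => falling q k (ν i + i.val)).det := by
  classical
  subst hq
  rw [← Matrix.det_transpose, Matrix.det_apply', mul_sum, unipotentCharacterGL, sum_mul]
  refine sum_congr rfl fun κ _ => ?_
  have hprod : (∏ i, (Matrix.of fun (i k : Fin n) => falling (Fintype.card F) k (ν i + i.val)).transpose (κ i) i) =
      ∏ i : Fin n, falling (Fintype.card F) (κ i) (ν i + i.val) := rfl
  rw [hprod]
  by_cases h : ∀ i : Fin n, (κ i).val ≤ ν i + i.val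
  · rw [if_pos h]
    have hs := sum_comp ν hsum κ h
    have hi := index_parabolic (F := F) (fun i => ν i + i.val - (κ i).val) hs
    have h1 : fixedPointCharacter (parabolicGL n F fun i => ν i + i.val - (κ i).val) 1 =
        (Nat.card (GL (Fin n) F ⧸ parabolicGL n F fun i => ν i + i.val - (κ i).val) : ℂ) := by
      simp [fixedPointCharacter, MulAction.fixedBy_one_eq_univ]
    rw [h1]
    have h2 : ∏ i : Fin n, (qFac (Fintype.card F) (ν i + i.val) : ℂ) =
        (∏ i : Fin n, (qFac (Fintype.card F) (ν i + i.val - (κ i).val) : ℂ)) *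
          ∏ i : Fin n, falling (Fintype.card F) (κ i) (ν i + i.val) := by
      rw [← prod_mul_distrib]
      exact prod_congr rfl fun i _ => qFac_eq _ _ _ (h i)
    rw [h2]
    have hi' := congrArg (fun z : ℕ => (z : ℂ)) hi
    simp only [Nat.cast_mul, Nat.cast_prod] at hi'
    rw [← hi']
    ring
  · rw [if_neg h]
    push Not at h
    obtain ⟨i, hi⟩ := h
    have : ∏ i : Fin n, falling (Fintype.card F) (κ i) (ν i + i.val) = 0 :=
      prod_eq_zero (mem_univ i) (falling_eq_zero _ _ _ hi)
    rw [this]
    simp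

/-- The degree formula. -/
theorem degree_formula (q : ℕ) (hq : Fintype.card F = q) (ν : Fin n → ℕ) (hsum : ∑ i, ν i = n) :
    unipotentCharacterGL n F ν 1 * (q : ℂ) ^ (n * (n - 1) * (n - 2) / 6) *
      ∏ i : Fin n, (qFac q (ν i + i.val) : ℂ) =
    qFac q n * ∏ i : Fin n, ∏ j ∈ univ.filter (fun j : Fin n => i < j),
      ((qInt q (ν j + j.val) : ℂ) - qInt q (ν i + i.val)) := by
  classical
  have h1 := degree_mul q hq ν hsum
  set A : Matrix (Fin n) (Fin n) ℂ := Matrix.of fun (i k : Fin n) => falling q k (ν i + i.val) with hA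
  -- the monic polynomials
  let p : Fin n → Polynomial ℂ := fun k =>
    ∏ t ∈ range k.val, (Polynomial.X - Polynomial.C (qInt q t : ℂ))
  have hmon : ∀ k, (p k).Monic := fun k => Polynomial.monic_prod_of_monic _ _ fun t _ => Polynomial.monic_X_sub_C _
  have hdeg : ∀ k, (p k).natDegree = k := by
    intro k
    rw [Polynomial.natDegree_prod_of_monic _ _ fun t _ => Polynomial.monic_X_sub_C _]
    simp only [Polynomial.natDegree_X_sub_C, sum_const, card_range, smul_eq_mul, mul_one]
  have hV := Matrix.det_eval_matrixOfPolynomials_eq_det_vandermonde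
    (fun i : Fin n => (qInt q (ν i + i.val) : ℂ)) p hdeg hmon
  rw [Matrix.det_vandermonde] at hV
  have hB : (Matrix.of fun i j => (p j).eval ((qInt q (ν i + i.val) : ℂ))) =
      Matrix.of fun i j => (q : ℂ) ^ (∑ t ∈ range j.val, t) * A i j := by
    ext i j
    simp only [Matrix.of_apply, hA, p, Polynomial.eval_prod, Polynomial.eval_sub, Polynomial.eval_X,
      Polynomial.eval_C]
    rw [pow_falling]
  rw [hB, Matrix.det_mul_row] at hV
  have hexp : ∏ k : Fin n, (q : ℂ) ^ (∑ t ∈ range k.val, t) = (q : ℂ) ^ (n * (n - 1) * (n - 2) / 6) := by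
    rw [prod_pow_eq_pow_sum, ← sum_sum_id]
    rw [Fin.sum_univ_eq_sum_range (fun k => ∑ t ∈ range k, t) n]
  rw [hexp] at hV
  have hfilter : ∀ i : Fin n, Finset.Ioi i = univ.filter (fun j : Fin n => i < j) := by
    intro i
    ext j
    simp
  simp_rw [hfilter] at hV
  rw [hV]
  calc _ = (q : ℂ) ^ (n * (n - 1) * (n - 2) / 6) * (unipotentCharacterGL n F ν 1 * ∏ i : Fin n, (qFac q (ν i + i.val) : ℂ)) := by ring
    _ = _ := by rw [h1]; ring

lemma qInt_lt (q : ℕ) (hq : 1 ≤ q) {a b : ℕ} (h : a < b) : qInt q a < qInt q b := by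
  have : qInt q b = qInt q a + q ^ a * qInt q (b - a) := by
    rw [← qInt_add]
    congr 1
    omega
  rw [this]
  have h2 : 0 < qInt q (b - a) := by
    obtain ⟨m, hm⟩ : ∃ m, b - a = m + 1 := ⟨b - a - 1, by omega⟩
    rw [hm, qInt, sum_range_succ]
    have : 0 < q ^ m := by positivity
    omega
  have h3 : 0 < q ^ a := by positivity
  have : 0 < q ^ a * qInt q (b - a) := by positivity
  omega

lemma qFac_pos (q r : ℕ) (hq : 1 ≤ q) : 0 < qFac q r := by
  apply prod_pos
  intro j _
  exact lt_of_le_of_lt (Nat.zero_le _) (qInt_lt q hq (Nat.lt_succ_self j))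

/-- The value at the identity is positive. -/
theorem degree_pos (ν : Fin n → ℕ) (hmono : Monotone ν) (hsum : ∑ i, ν i = n) :
    0 < (unipotentCharacterGL n F ν 1).re := by
  classical
  set q := Fintype.card F with hq
  have hq1 : 1 ≤ q := Fintype.card_pos
  have h := degree_formula (F := F) q hq.symm ν hsum
  have hsm := strictMono_add ν hmono
  -- the right side is a positive real
  let r : ℝ := (qFac q n : ℝ) * ∏ i : Fin n, ∏ j ∈ univ.filter (fun j : Fin n => i < j),
    ((qInt q (ν j + j.val) : ℝ) - qInt q (ν i + i.val))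
  have hr : 0 < r := by
    apply mul_pos
    · exact_mod_cast qFac_pos q n hq1
    · apply prod_pos
      intro i _
      apply prod_pos
      intro j hj
      have hij : i < j := (mem_filter.1 hj).2
      have := qInt_lt q hq1 (hsm hij)
      have : (qInt q (ν i + i.val) : ℝ) < qInt q (ν j + j.val) := by exact_mod_cast this
      linarith
  let s : ℝ := (q : ℝ) ^ (n * (n - 1) * (n - 2) / 6) * ∏ i : Fin n, (qFac q (ν i + i.val) : ℝ)
  have hs : 0 < s := by
    apply mul_pos
    · have : (0 : ℝ) < q := by exact_mod_cast hq1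
      positivity
    · apply prod_pos
      intro i _
      exact_mod_cast qFac_pos q _ hq1
  have hsne : (s : ℂ) ≠ 0 := by exact_mod_cast hs.ne'
  have e : unipotentCharacterGL n F ν 1 * (s : ℂ) = (r : ℂ) := by
    simp only [s, r]
    push_cast
    rw [← mul_assoc, h]
  have e2 : unipotentCharacterGL n F ν 1 = ((r / s : ℝ) : ℂ) := by
    push_cast
    rw [eq_div_iff hsne, e]
  rw [e2, Complex.ofReal_re]
  positivity

end Cfsg.Agent.Lib.GLFlag
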