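import Mathlib
import Cfsg.Prelude.Def_LinearParabolics

/-!
The block labels of a composition: monotone, values `< n`, and fibers of the right size.
-/

set_option autoImplicit false

namespace Cfsg.Agent.Lib.GLFlag

open Finset Cfsg

variable {n : ℕ}

/-- partial sums of a composition. -/
def pSum (μ : Fin n → ℕ) (j : Fin n) : ℕ := ∑ k ∈ univ.filter (fun k : Fin n => k ≤ j), μ k

lemma compLabel_def (μ : Fin n → ℕ) (i : Fin n) :
    compLabel μ i = (univ.filter fun j : Fin n => pSum μ j ≤ i.val).card := rfl

lemma pSum_mono (μ : Fin n → ℕ) : Monotone (pSum μ) := by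
  intro j j' h
  apply sum_le_sum_of_subset
  intro k hk
  simp only [mem_filter, mem_univ, true_and] at hk ⊢
  exact hk.trans h

theorem compLabel_mono (μ : Fin n → ℕ) : Monotone (compLabel μ) := by
  intro i i' h
  apply card_le_card
  intro j hj
  simp only [mem_filter, mem_univ, true_and] at hj ⊢
  exact hj.trans h

lemma pSum_last (μ : Fin n → ℕ) (hμ : ∑ i, μ i = n) (j : Fin n) (hj : j.val + 1 = n) :
    pSum μ j = n := by
  rw [pSum, filter_true_of_mem, hμ]
  intro k _
  rw [Fin.le_def]
  have := k.2
  omega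

lemma exists_block (μ : Fin n → ℕ) (hμ : ∑ i, μ i = n) (i : Fin n) :
    ∃ t : Fin n, i.val < pSum μ t ∧ ∀ j, j < t → pSum μ j ≤ i.val := by
  classical
  have hne : (univ.filter fun t : Fin n => i.val < pSum μ t).Nonempty := by
    have hn : 0 < n := i.pos
    refine ⟨⟨n - 1, by omega⟩, ?_⟩
    simp only [mem_filter, mem_univ, true_and]
    rw [pSum_last μ hμ _ (by simp; omega)]
    exact i.2
  refine ⟨(univ.filter fun t : Fin n => i.val < pSum μ t).min' hne, ?_, ?_⟩
  · exact (mem_filter.1 (min'_mem _ hne)).2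
  · intro j hj
    by_contra hc
    have := min'_le _ j (by simpa using hc : j ∈ univ.filter fun t : Fin n => i.val < pSum μ t)
    exact absurd hj (not_lt.2 this)

lemma compLabel_eq_of_block (μ : Fin n → ℕ) (i t : Fin n) (h1 : i.val < pSum μ t)
    (h2 : ∀ j, j < t → pSum μ j ≤ i.val) : compLabel μ i = t := by
  classical
  rw [compLabel_def]
  have : (univ.filter fun j : Fin n => pSum μ j ≤ i.val) = Finset.Iio t := by
    ext j
    simp only [mem_filter, mem_univ, true_and, mem_Iio]
    constructor
    · intro hj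
      by_contra hc
      have : pSum μ t ≤ pSum μ j := pSum_mono μ (not_lt.1 hc)
      omega
    · exact h2 j
  rw [this, Fin.card_Iio]

theorem compLabel_eq_iff (μ : Fin n → ℕ) (hμ : ∑ i, μ i = n) (i t : Fin n) :
    compLabel μ i = t ↔ i.val < pSum μ t ∧ ∀ j, j < t → pSum μ j ≤ i.val := by
  constructor
  · intro h
    obtain ⟨t', h1, h2⟩ := exists_block μ hμ i
    have := compLabel_eq_of_block μ i t' h1 h2
    have e : t' = t := Fin.ext (by omega)
    subst e
    exact ⟨h1, h2⟩
  · rintro ⟨h1, h2⟩
    exact compLabel_eq_of_block μ i t h1 h2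

theorem compLabel_lt (μ : Fin n → ℕ) (hμ : ∑ i, μ i = n) (i : Fin n) : compLabel μ i < n := by
  obtain ⟨t, h1, h2⟩ := exists_block μ hμ i
  rw [compLabel_eq_of_block μ i t h1 h2]
  exact t.2

/-- The sum of the parts before `t`. -/
def pLow (μ : Fin n → ℕ) (t : Fin n) : ℕ := ∑ k ∈ univ.filter (fun k : Fin n => k < t), μ k

lemma pSum_eq (μ : Fin n → ℕ) (t : Fin n) : pSum μ t = pLow μ t + μ t := by
  classical
  have : (univ.filter fun k : Fin n => k ≤ t) = insert t (univ.filter fun k : Fin n => k < t) := by
    ext k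
    simp only [mem_filter, mem_univ, true_and, mem_insert]
    exact le_iff_eq_or_lt
  rw [pSum, this, sum_insert (by simp), pLow, add_comm]

lemma pSum_le_pLow (μ : Fin n → ℕ) {j t : Fin n} (h : j < t) : pSum μ j ≤ pLow μ t := by
  apply sum_le_sum_of_subset
  intro k hk
  simp only [mem_filter, mem_univ, true_and] at hk ⊢
  exact lt_of_le_of_lt hk h

lemma block_iff (μ : Fin n → ℕ) (t : Fin n) (i : ℕ) :
    (∀ j, j < t → pSum μ j ≤ i) ↔ pLow μ t ≤ i := by
  constructor
  · intro h
    by_cases ht : t.val = 0
    · have : pLow μ t = 0 := by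
        rw [pLow, filter_false_of_mem, sum_empty]
        intro k _
        rw [Fin.lt_def, ht]
        omega
      omega
    · let j : Fin n := ⟨t.val - 1, by have := t.2; omega⟩
      have hj : j < t := by
        rw [Fin.lt_def]; show t.val - 1 < t.val; omega
      have := h j hj
      have e : pLow μ t = pSum μ j := by
        rw [pLow, pSum]
        congr 1
        ext k
        simp only [mem_filter, mem_univ, true_and, Fin.lt_def, Fin.le_def]
        show k.val < t.val ↔ k.val ≤ t.val - 1
        omega
      omega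
  · intro h j hj
    exact (pSum_le_pLow μ hj).trans h

lemma pSum_le (μ : Fin n → ℕ) (hμ : ∑ i, μ i = n) (t : Fin n) : pSum μ t ≤ n := by
  calc pSum μ t ≤ ∑ i, μ i := sum_le_sum_of_subset (subset_univ _)
    _ = n := hμ

/-- The fiber of the label has the size of the corresponding part. -/
theorem card_label_fiber (μ : Fin n → ℕ) (hμ : ∑ i, μ i = n) (t : Fin n) :
    (univ.filter fun i : Fin n => compLabel μ i = t.val).card = μ t := by
  classical
  have hle := pSum_le μ hμ t
  have e : (univ.filter fun i : Fin n => compLabel μ i = t.val).image Fin.val =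
      Finset.Ico (pLow μ t) (pSum μ t) := by
    ext x
    simp only [mem_image, mem_filter, mem_univ, true_and, mem_Ico]
    constructor
    · rintro ⟨i, hi, rfl⟩
      have := (compLabel_eq_iff μ hμ i t).1 hi
      exact ⟨(block_iff μ t i.val).1 this.2, this.1⟩
    · rintro ⟨h1, h2⟩
      refine ⟨⟨x, by omega⟩, ?_, rfl⟩
      exact (compLabel_eq_iff μ hμ ⟨x, by omega⟩ t).2 ⟨h2, (block_iff μ t x).2 h1⟩
  have := congrArg Finset.card e
  rw [card_image_of_injective _ Fin.val_injective, Nat.card_Ico, pSum_eq] at this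
  omega

end Cfsg.Agent.Lib.GLFlag
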