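import Cfsg.Agent.Lib.GLFlag.Bruhat
import Cfsg.Agent.Lib.GLFlag.Label
import Cfsg.Agent.Lib.GLFlag.Orbit
import Cfsg.Agent.Lib.GLFlag.Comb

/-!
Double cosets of parabolic subgroups of `GL_n(F)` and of Young subgroups of `Sym(n)`: both are
classified by the relative position matrix.
-/

set_option autoImplicit false

namespace Cfsg.Agent.Lib.GLFlag

open Finset Cfsg

variable {n : ℕ} {F : Type*} [Field F]

section Rank

variable (a b : Fin n → ℕ)

/-- The rank invariant. -/
noncomputable def rkInv (g : Matrix (Fin n) (Fin n) F) (s t : ℕ) : ℕ :=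
  (g.submatrix (Subtype.val : {i // s ≤ a i} → Fin n) (Subtype.val : {j // b j < t} → Fin n)).rank

variable {a b}

lemma rkInv_left {p : Matrix (Fin n) (Fin n) F} (hp : p.BlockTriangular a)
    (g : Matrix (Fin n) (Fin n) F) (s t : ℕ) : rkInv a b (p * g) s t ≤ rkInv a b g s t := by
  classical
  have e : (p * g).submatrix (Subtype.val : {i // s ≤ a i} → Fin n) (Subtype.val : {j // b j < t} → Fin n) =
      (p.submatrix (Subtype.val : {i // s ≤ a i} → Fin n) (Subtype.val : {i // s ≤ a i} → Fin n)) *
        (g.submatrix (Subtype.val : {i // s ≤ a i} → Fin n) (Subtype.val : {j // b j < t} → Fin n)) := by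
    ext i j
    simp only [Matrix.submatrix_apply, Matrix.mul_apply]
    rw [← Fintype.sum_subtype_add_sum_subtype (fun k => s ≤ a k)]
    rw [Finset.sum_eq_zero (s := univ) (f := fun k : {k // ¬ s ≤ a k} => p i.1 k.1 * g k.1 j.1), add_zero]
    intro k _
    rw [hp (show a k.1 < a i.1 from lt_of_lt_of_le (not_le.1 k.2) i.2), zero_mul]
  rw [rkInv, e]
  exact Matrix.rank_mul_le_right _ _

lemma rkInv_right {q : Matrix (Fin n) (Fin n) F} (hq : q.BlockTriangular b)
    (g : Matrix (Fin n) (Fin n) F) (s t : ℕ) : rkInv a b (g * q) s t ≤ rkInv a b g s t := by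
  classical
  have e : (g * q).submatrix (Subtype.val : {i // s ≤ a i} → Fin n) (Subtype.val : {j // b j < t} → Fin n) =
      (g.submatrix (Subtype.val : {i // s ≤ a i} → Fin n) (Subtype.val : {j // b j < t} → Fin n)) *
        (q.submatrix (Subtype.val : {j // b j < t} → Fin n) (Subtype.val : {j // b j < t} → Fin n)) := by
    ext i j
    simp only [Matrix.submatrix_apply, Matrix.mul_apply]
    rw [← Fintype.sum_subtype_add_sum_subtype (fun k => b k < t)]
    rw [Finset.sum_eq_zero (s := univ) (f := fun k : {k // ¬ b k < t} => g i.1 k.1 * q k.1 j.1), add_zero]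
    intro k _
    rw [hq (show b j.1 < b k.1 from lt_of_lt_of_le j.2 (not_lt.1 k.2)), mul_zero]
  rw [rkInv, e]
  exact Matrix.rank_mul_le_left _ _

lemma rkInv_perm (w : Equiv.Perm (Fin n)) (s t : ℕ) :
    rkInv a b (permM F w) s t = (univ.filter fun j => s ≤ a (w j) ∧ b j < t).card := by
  classical
  let A := (permM F w).submatrix (Subtype.val : {i // s ≤ a i} → Fin n) (Subtype.val : {j // b j < t} → Fin n)
  let S := {j : Fin n // s ≤ a (w j) ∧ b j < t}
  let e : S → {i // s ≤ a i} := fun j => ⟨w j.1, j.2.1⟩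
  have he : Function.Injective e := by
    intro x y hxy
    have : w x.1 = w y.1 := congrArg Subtype.val hxy
    exact Subtype.ext (w.injective this)
  let v : S → ({i // s ≤ a i} → F) := fun j => Pi.single (e j) 1
  have hv : LinearIndependent F v := by
    have := (Pi.basisFun F {i // s ≤ a i}).linearIndependent.comp e he
    convert this using 1
    funext j
    simp [v]
  have hspan : Submodule.span F (Set.range A.col) = Submodule.span F (Set.range v) := by
    apply le_antisymm
    · rw [Submodule.span_le]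
      rintro _ ⟨j, rfl⟩
      by_cases hj : s ≤ a (w j.1)
      · apply Submodule.subset_span
        refine ⟨⟨j.1, hj, j.2⟩, ?_⟩
        funext i
        simp only [v, e, A, Matrix.col_apply, Matrix.submatrix_apply, permM, Matrix.of_apply, Pi.single_apply]
        by_cases h : i = ⟨w j.1, hj⟩
        · subst h; simp
        · rw [if_neg h, if_neg]
          intro hc
          exact h (Subtype.ext hc)
      · have : A.col j = 0 := by
          funext i
          simp only [A, Matrix.col_apply, Matrix.submatrix_apply, permM, Matrix.of_apply, Pi.zero_apply]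
          rw [if_neg]
          intro hc
          exact hj (hc ▸ i.2)
        rw [this]
        exact zero_mem _
    · rw [Submodule.span_le]
      rintro _ ⟨j, rfl⟩
      apply Submodule.subset_span
      refine ⟨⟨j.1, j.2.2⟩, ?_⟩
      funext i
      simp only [v, e, A, Matrix.col_apply, Matrix.submatrix_apply, permM, Matrix.of_apply, Pi.single_apply]
      by_cases h : i = ⟨w j.1, j.2.1⟩
      · subst h; simp
      · rw [if_neg h, if_neg]
        intro hc
        exact h (Subtype.ext hc)
  rw [rkInv, Matrix.rank_eq_finrank_span_cols]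
  change Module.finrank F (Submodule.span F (Set.range A.col)) = _
  rw [hspan, finrank_span_eq_card hv, Fintype.card_subtype]

/-- counts of the ranks -/
def cntInv (a b : Fin n → ℕ) (w : Equiv.Perm (Fin n)) (s t : ℕ) : ℕ :=
  (univ.filter fun j => s ≤ a (w j) ∧ b j < t).card

lemma cntInv_eq_of_double {p q : GL (Fin n) F} {w w' : Equiv.Perm (Fin n)}
    (hp : (p : Matrix (Fin n) (Fin n) F).BlockTriangular a)
    (hq : (q : Matrix (Fin n) (Fin n) F).BlockTriangular b)
    (hpi : ((p⁻¹ : GL (Fin n) F) : Matrix (Fin n) (Fin n) F).BlockTriangular a)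
    (hqi : ((q⁻¹ : GL (Fin n) F) : Matrix (Fin n) (Fin n) F).BlockTriangular b)
    (h : permGL F w' = p * permGL F w * q) (s t : ℕ) : cntInv a b w' s t = cntInv a b w s t := by
  rw [cntInv, cntInv, ← rkInv_perm (F := F), ← rkInv_perm (F := F)]
  apply le_antisymm
  · have : permM F w' = (p : Matrix (Fin n) (Fin n) F) * (permM F w * (q : Matrix (Fin n) (Fin n) F)) := by
      have := congrArg (fun x : GL (Fin n) F => (x : Matrix (Fin n) (Fin n) F)) h
      simpa [mul_assoc] using this
    rw [this]
    exact (rkInv_left hp _ s t).trans (rkInv_right hq _ s t)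
  · have h' : permGL F w = p⁻¹ * permGL F w' * q⁻¹ := by rw [h]; group
    have : permM F w = ((p⁻¹ : GL (Fin n) F) : Matrix (Fin n) (Fin n) F) *
        (permM F w' * ((q⁻¹ : GL (Fin n) F) : Matrix (Fin n) (Fin n) F)) := by
      have := congrArg (fun x : GL (Fin n) F => (x : Matrix (Fin n) (Fin n) F)) h'
      simpa [mul_assoc] using this
    rw [this]
    exact (rkInv_left hpi _ s t).trans (rkInv_right hqi _ s t)

end Rank

section RelPos

/-- The relative position matrix (columns first). -/
def relPos (a b : Fin n → ℕ) (w : Equiv.Perm (Fin n)) : Fin n → Fin n → ℕ :=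
  fun t s => (univ.filter fun j => a (w j) = s.val ∧ b j = t.val).card

lemma relPos_add (a b : Fin n → ℕ) (w : Equiv.Perm (Fin n)) (s t : Fin n) :
    relPos a b w t s + cntInv a b w (s.val + 1) (t.val + 1) + cntInv a b w s.val t.val =
      cntInv a b w s.val (t.val + 1) + cntInv a b w (s.val + 1) t.val := by
  simp only [relPos, cntInv, card_filter]
  rw [← sum_add_distrib, ← sum_add_distrib, ← sum_add_distrib]
  refine sum_congr rfl fun j _ => ?_
  split_ifs <;> omega

lemma relPos_eq_of_cnt {a b : Fin n → ℕ} {w w' : Equiv.Perm (Fin n)}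
    (h : ∀ s t, cntInv a b w' s t = cntInv a b w s t) : relPos a b w' = relPos a b w := by
  funext t s
  have h1 := relPos_add a b w s t
  have h2 := relPos_add a b w' s t
  simp only [h] at h2
  omega

lemma perm_apply_inv (v : Equiv.Perm (Fin n)) (x : Fin n) : v (v⁻¹ x) = x := v.apply_symm_apply x

/-- Equal relative position: the permutations differ by Young subgroups. -/
lemma exists_young {a b : Fin n → ℕ} (ha : ∀ i, a i < n) (hb : ∀ i, b i < n)
    {w w' : Equiv.Perm (Fin n)} (h : relPos a b w = relPos a b w') :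
    ∃ u v : Equiv.Perm (Fin n), (∀ i, a (u i) = a i) ∧ (∀ j, b (v j) = b j) ∧ w' = u * w * v := by
  classical
  let f : Fin n → Fin n × Fin n := fun j => (⟨a (w j), ha _⟩, ⟨b j, hb _⟩)
  let f' : Fin n → Fin n × Fin n := fun j => (⟨a (w' j), ha _⟩, ⟨b j, hb _⟩)
  have hc : ∀ c, Fintype.card {j // f' j = c} = Fintype.card {j // f j = c} := by
    rintro ⟨s, t⟩
    have := congrFun (congrFun h t) s
    simp only [relPos] at this
    rw [Fintype.card_subtype, Fintype.card_subtype]
    -- both are filters
    have e1 : (univ.filter fun j => f' j = (s, t)) = univ.filter fun j => a (w' j) = s.val ∧ b j = t.val := by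
      ext j
      simp [f', Prod.ext_iff, Fin.ext_iff]
    have e2 : (univ.filter fun j => f j = (s, t)) = univ.filter fun j => a (w j) = s.val ∧ b j = t.val := by
      ext j
      simp [f, Prod.ext_iff, Fin.ext_iff]
    rw [e1, e2]; exact this.symm
  let v : Equiv.Perm (Fin n) := Equiv.ofFiberEquiv (f := f') (g := f) fun c => Fintype.equivOfCardEq (hc c)
  have hv : ∀ j, f (v j) = f' j := fun j => Equiv.ofFiberEquiv_map _ j
  have h1 : ∀ j, a (w (v j)) = a (w' j) := fun j => by
    have := congrArg (fun x => x.1.val) (hv j)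
    exact this
  have h2 : ∀ j, b (v j) = b j := fun j => by
    have := congrArg (fun x => x.2.val) (hv j)
    exact this
  refine ⟨w' * v⁻¹ * w⁻¹, v, ?_, h2, ?_⟩
  · intro i
    have := h1 (v⁻¹ (w⁻¹ i))
    rw [perm_apply_inv, perm_apply_inv] at this
    simpa using this.symm
  · group

lemma relPos_young {a b : Fin n → ℕ} {u v : Equiv.Perm (Fin n)} (hu : ∀ i, a (u i) = a i)
    (hv : ∀ j, b (v j) = b j) (w : Equiv.Perm (Fin n)) : relPos a b (u * w * v) = relPos a b w := by
  funext t s
  simp only [relPos, Equiv.Perm.mul_apply, hu]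
  apply card_bij (fun j _ => v j)
  · intro j hj
    simp only [mem_filter, mem_univ, true_and] at hj ⊢
    exact ⟨hj.1, by rw [hv]; exact hj.2⟩
  · intro j _ j' _ h
    exact v.injective h
  · intro j hj
    simp only [mem_filter, mem_univ, true_and] at hj
    refine ⟨v⁻¹ j, ?_, perm_apply_inv v j⟩
    simp only [mem_filter, mem_univ, true_and, perm_apply_inv]
    refine ⟨hj.1, ?_⟩
    rw [← hv (v⁻¹ j)]
    simpa using hj.2

lemma permGL_mem_of_young {a : Fin n → ℕ} {u : Equiv.Perm (Fin n)} (hu : ∀ i, a (u i) = a i) :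
    ((permGL F u : GL (Fin n) F) : Matrix (Fin n) (Fin n) F).BlockTriangular a := by
  intro i j hij
  simp only [permGL_coe, permM, Matrix.of_apply]
  rw [if_neg]
  rintro rfl
  rw [hu] at hij
  exact lt_irrefl _ hij

end RelPos

section Mem

/-- the relative position lies in the set of matrices with the given row and column sums -/
lemma relPos_mem (μ ν : Fin n → ℕ) (hμ : ∑ i, μ i = n) (hν : ∑ i, ν i = n)
    (w : Equiv.Perm (Fin n)) :
    relPos (compLabel μ) (compLabel ν) w ∈
      ((Fintype.piFinset fun j : Fin n => piAntidiag (univ : Finset (Fin n)) (ν j)).filter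
        (fun p => ∀ i, ∑ j, p j i = μ i)) := by
  classical
  have ha := compLabel_lt μ hμ
  rw [mem_filter, Fintype.mem_piFinset]
  constructor
  · intro t
    rw [mem_piAntidiag]
    refine ⟨?_, fun _ _ => mem_univ _⟩
    rw [← card_label_fiber ν hν t]
    change ∑ s : Fin n, (univ.filter fun j => compLabel μ (w j) = s.val ∧ compLabel ν j = t.val).card = _
    rw [card_eq_sum_card_fiberwise (s := univ.filter fun i : Fin n => compLabel ν i = t.val)
      (f := fun j => (⟨compLabel μ (w j), ha _⟩ : Fin n))
      (t := univ) (fun _ _ => by simp)]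
    refine sum_congr rfl fun s _ => ?_
    congr 1
    ext j
    simp [Fin.ext_iff, and_comm]
  · intro s
    change ∑ t : Fin n, (univ.filter fun j => compLabel μ (w j) = s.val ∧ compLabel ν j = t.val).card = _
    rw [← card_label_fiber μ hμ s]
    have hb := compLabel_lt ν hν
    have : (univ.filter fun i : Fin n => compLabel μ i = s.val).card =
        (univ.filter fun j : Fin n => compLabel μ (w j) = s.val).card := by
      symm
      apply card_bij (fun j _ => w j)
      · intro j hj
        simpa using hj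
      · intro j _ j' _ h
        exact w.injective h
      · intro i hi
        refine ⟨w⁻¹ i, ?_, by simp⟩
        simpa using hi
    rw [this, card_eq_sum_card_fiberwise (f := fun j => (⟨compLabel ν j, hb _⟩ : Fin n))
      (t := univ) (fun _ _ => by simp)]
    refine sum_congr rfl fun t _ => ?_
    congr 1
    ext j
    simp [Fin.ext_iff]

/-- Refinement of a labelling with prescribed fiber sizes. -/
lemma exists_refine {X T S : Type*} [Fintype X] [DecidableEq X] [Fintype T] [DecidableEq T]
    [Fintype S] [DecidableEq S] (b : X → T) (p : T → S → ℕ)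
    (h : ∀ t, (univ.filter fun x => b x = t).card = ∑ s, p t s) :
    ∃ f : X → S, ∀ t s, (univ.filter fun x => f x = s ∧ b x = t).card = p t s := by
  classical
  have hc : ∀ t, Fintype.card {x // b x = t} = Fintype.card (Σ s, Fin (p t s)) := by
    intro t
    rw [Fintype.card_subtype, h t, Fintype.card_sigma]
    simp
  let e : ∀ t, {x // b x = t} ≃ Σ s, Fin (p t s) := fun t => Fintype.equivOfCardEq (hc t)
  refine ⟨fun x => (e (b x) ⟨x, rfl⟩).1, ?_⟩
  intro t s
  have key : ∀ (t : T) (y : {x // b x = t}), (e (b y.1) ⟨y.1, rfl⟩).1 = (e t y).1 := by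
    rintro t ⟨y, rfl⟩
    rfl
  have : Fintype.card {x // (e (b x) ⟨x, rfl⟩).1 = s ∧ b x = t} = Fintype.card (Fin (p t s)) := by
    apply Fintype.card_congr
    refine Equiv.trans ?_ (Equiv.sigmaSubtype (β := fun s => Fin (p t s)) s)
    exact
      { toFun := fun x => ⟨e t ⟨x.1, x.2.2⟩, (key t ⟨x.1, x.2.2⟩).symm.trans x.2.1⟩
        invFun := fun z => ⟨((e t).symm z.1).1, by
          refine ⟨?_, ((e t).symm z.1).2⟩
          rw [key t ((e t).symm z.1)]
          simpa using z.2⟩
        left_inv := fun x => by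
          apply Subtype.ext
          simp
        right_inv := fun z => by
          apply Subtype.ext
          simp }
  rw [Fintype.card_subtype, Fintype.card_fin] at this
  exact this

lemma exists_relPos (μ ν : Fin n → ℕ) (hμ : ∑ i, μ i = n) (hν : ∑ i, ν i = n)
    (p : Fin n → Fin n → ℕ)
    (hp : p ∈ ((Fintype.piFinset fun j : Fin n => piAntidiag (univ : Finset (Fin n)) (ν j)).filter
        (fun p => ∀ i, ∑ j, p j i = μ i))) :
    ∃ w, relPos (compLabel μ) (compLabel ν) w = p := by
  classical
  rw [mem_filter, Fintype.mem_piFinset] at hp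
  obtain ⟨hcol, hrow⟩ := hp
  have ha := compLabel_lt μ hμ
  have hb := compLabel_lt ν hν
  let a' : Fin n → Fin n := fun i => ⟨compLabel μ i, ha i⟩
  let b' : Fin n → Fin n := fun i => ⟨compLabel ν i, hb i⟩
  -- refine `b'` by rows, `a'` by columns
  obtain ⟨fb, hfb⟩ := exists_refine b' p (by
    intro t
    have h1 := (mem_piAntidiag.1 (hcol t)).1
    rw [h1, ← card_label_fiber ν hν t]
    congr 1
    ext j
    simp [b', Fin.ext_iff])
  obtain ⟨fa, hfa⟩ := exists_refine a' (fun s t => p t s) (by
    intro s
    rw [hrow s, ← card_label_fiber μ hμ s]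
    congr 1
    ext j
    simp [a', Fin.ext_iff])
  -- the two maps to pairs
  let F1 : Fin n → Fin n × Fin n := fun j => (fb j, b' j)
  let F2 : Fin n → Fin n × Fin n := fun i => (a' i, fa i)
  have hc : ∀ c, Fintype.card {j // F1 j = c} = Fintype.card {i // F2 i = c} := by
    rintro ⟨s, t⟩
    rw [Fintype.card_subtype, Fintype.card_subtype]
    have e1 : (univ.filter fun j => F1 j = (s, t)) = univ.filter fun j => fb j = s ∧ b' j = t := by
      ext j; simp [F1, Prod.ext_iff]
    have e2 : (univ.filter fun j => F2 j = (s, t)) = univ.filter fun j => fa j = t ∧ a' j = s := by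
      ext j; simp [F2, Prod.ext_iff, and_comm]
    rw [e1, e2, hfb, hfa]
  let w : Equiv.Perm (Fin n) := Equiv.ofFiberEquiv (f := F1) (g := F2) fun c => Fintype.equivOfCardEq (hc c)
  have hw : ∀ j, F2 (w j) = F1 j := fun j => Equiv.ofFiberEquiv_map _ j
  refine ⟨w, ?_⟩
  funext t s
  rw [← hfb t s]
  simp only [relPos]
  congr 1
  ext j
  have h1 : a' (w j) = fb j := congrArg Prod.fst (hw j)
  simp only [mem_filter, mem_univ, true_and]
  constructor
  · rintro ⟨h2, h3⟩
    refine ⟨?_, Fin.ext h3⟩
    rw [← h1]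
    exact Fin.ext h2
  · rintro ⟨h2, h3⟩
    refine ⟨?_, congrArg Fin.val h3⟩
    have : a' (w j) = s := h1.trans h2
    exact congrArg Fin.val this

/-- The number of relative positions is the number of matrices with the given sums. -/
theorem card_range_relPos (μ ν : Fin n → ℕ) (hμ : ∑ i, μ i = n) (hν : ∑ i, ν i = n) :
    Nat.card (Set.range (relPos (compLabel μ) (compLabel ν))) = matCount μ ν := by
  classical
  have : Set.range (relPos (compLabel μ) (compLabel ν)) =
      ↑((Fintype.piFinset fun j : Fin n => piAntidiag (univ : Finset (Fin n)) (ν j)).filter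
        (fun p => ∀ i, ∑ j, p j i = μ i)) := by
    ext p
    constructor
    · rintro ⟨w, rfl⟩
      exact relPos_mem μ ν hμ hν w
    · intro hp
      exact exists_relPos μ ν hμ hν p hp
  rw [this, matCount, Nat.card_coe_set_eq, Set.ncard_coe_finset]

end Mem

section Orbits

/-- Upper triangular matrices are in the parabolic. -/
lemma blockTriangular_of_mono {a : Fin n → ℕ} (ha : Monotone a) {g : Matrix (Fin n) (Fin n) F}
    (hg : g.BlockTriangular id) : g.BlockTriangular a := by
  intro i j hij
  apply hg
  by_contra hc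
  exact absurd (ha (not_lt.1 hc)) (not_le.2 hij)

lemma inv_mem_parabolic {μ : Fin n → ℕ} {p : GL (Fin n) F} (hp : p ∈ parabolicGL n F μ) :
    ((p⁻¹ : GL (Fin n) F) : Matrix (Fin n) (Fin n) F).BlockTriangular (compLabel μ) :=
  inv_mem hp

theorem exists_double (μ ν : Fin n → ℕ) (g : GL (Fin n) F) :
    ∃ (w : Equiv.Perm (Fin n)) (p q : GL (Fin n) F), p ∈ parabolicGL n F μ ∧ q ∈ parabolicGL n F ν ∧
      g = p * permGL F w * q := by
  obtain ⟨u, v, w, hu, hv, h⟩ := exists_bruhat g
  exact ⟨w, u, v, blockTriangular_of_mono (compLabel_mono μ) hu,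
    blockTriangular_of_mono (compLabel_mono ν) hv, h⟩

lemma relPos_eq_of_double {μ ν : Fin n → ℕ} {p q : GL (Fin n) F} {w w' : Equiv.Perm (Fin n)}
    (hp : p ∈ parabolicGL n F μ) (hq : q ∈ parabolicGL n F ν)
    (h : permGL F w' = p * permGL F w * q) :
    relPos (compLabel μ) (compLabel ν) w' = relPos (compLabel μ) (compLabel ν) w :=
  relPos_eq_of_cnt (cntInv_eq_of_double hp hq (inv_mem hp) (inv_mem hq) h)

/-- The number of orbits of `GL_n(F)` on pairs of flags. -/
theorem card_orbits_GL (μ ν : Fin n → ℕ) (hμ : ∑ i, μ i = n) (hν : ∑ i, ν i = n) :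
    Nat.card (MulAction.orbitRel.Quotient (GL (Fin n) F)
      ((GL (Fin n) F ⧸ parabolicGL n F μ) × (GL (Fin n) F ⧸ parabolicGL n F ν))) = matCount μ ν := by
  classical
  choose W P Q hP hQ hg using exists_double (F := F) μ ν
  let τ : GL (Fin n) F → Fin n → Fin n → ℕ := fun g => relPos (compLabel μ) (compLabel ν) (W g)
  have hτw : ∀ (p q : GL (Fin n) F) (w), p ∈ parabolicGL n F μ → q ∈ parabolicGL n F ν →
      τ (p * permGL F w * q) = relPos (compLabel μ) (compLabel ν) w := by
    intro p q w hp hq
    set g := p * permGL F w * q with hg'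
    -- `permGL (W g) = P⁻¹ g Q⁻¹`
    have h1 : permGL F (W g) = ((P g)⁻¹ * p) * permGL F w * (q * (Q g)⁻¹) := by
      have := hg g
      calc permGL F (W g) = (P g)⁻¹ * (P g * permGL F (W g) * Q g) * (Q g)⁻¹ := by group
        _ = (P g)⁻¹ * g * (Q g)⁻¹ := by rw [← this]
        _ = _ := by rw [hg']; group
    exact relPos_eq_of_double (mul_mem (inv_mem (hP g)) hp) (mul_mem hq (inv_mem (hQ g))) h1
  have h1 : ∀ p ∈ parabolicGL n F μ, ∀ g, ∀ q ∈ parabolicGL n F ν, τ (p * g * q) = τ g := by
    intro p hp g q hq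
    have e : p * g * q = (p * P g) * permGL F (W g) * (Q g * q) := by
      conv_lhs => rw [hg g]
      group
    rw [e, hτw _ _ _ (mul_mem hp (hP g)) (mul_mem (hQ g) hq)]
  have h2 : ∀ g g', τ g = τ g' → ∃ p ∈ parabolicGL n F μ, ∃ q ∈ parabolicGL n F ν, g' = p * g * q := by
    intro g g' h
    obtain ⟨u, v, hu, hv, hw⟩ := exists_young (compLabel_lt μ hμ) (compLabel_lt ν hν) h
    refine ⟨P g' * permGL F u * (P g)⁻¹, ?_, (Q g)⁻¹ * permGL F v * Q g', ?_, ?_⟩
    · exact mul_mem (mul_mem (hP g') (permGL_mem_of_young hu)) (inv_mem (hP g))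
    · exact mul_mem (mul_mem (inv_mem (hQ g)) (permGL_mem_of_young hv)) (hQ g')
    · have e1 := hg g
      have e2 := hg g'
      calc g' = P g' * permGL F (W g') * Q g' := e2
        _ = P g' * (permGL F u * permGL F (W g) * permGL F v) * Q g' := by
            rw [hw, map_mul, map_mul]
        _ = P g' * permGL F u * (P g)⁻¹ * (P g * permGL F (W g) * Q g) * ((Q g)⁻¹ * permGL F v * Q g') := by
            group
        _ = _ := by rw [← e1]
  rw [card_orbits_of_invariant _ _ τ h1 h2, ← card_range_relPos μ ν hμ hν]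
  congr 2
  ext m
  constructor
  · rintro ⟨g, rfl⟩
    exact ⟨W g, rfl⟩
  · rintro ⟨w, rfl⟩
    refine ⟨permGL F w, ?_⟩
    have := hτw 1 1 w (one_mem _) (one_mem _)
    simpa using this

/-- The number of orbits of `Sym(n)` on pairs of cosets of Young subgroups. -/
theorem card_orbits_Sym (μ ν : Fin n → ℕ) (hμ : ∑ i, μ i = n) (hν : ∑ i, ν i = n) :
    Nat.card (MulAction.orbitRel.Quotient (Equiv.Perm (Fin n))
      ((Equiv.Perm (Fin n) ⧸ youngSubgroup μ) × (Equiv.Perm (Fin n) ⧸ youngSubgroup ν))) =
      matCount μ ν := by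
  classical
  rw [card_orbits_of_invariant _ _ (relPos (compLabel μ) (compLabel ν)), card_range_relPos μ ν hμ hν]
  · intro p hp g q hq
    exact relPos_young hp hq g
  · intro g g' h
    obtain ⟨u, v, hu, hv, hw⟩ := exists_young (compLabel_lt μ hμ) (compLabel_lt ν hν) h
    exact ⟨u, hu, v, hv, hw⟩

end Orbits

end Cfsg.Agent.Lib.GLFlag
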