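import Cfsg.Agent.Lib.GLFlag.Label

/-!
The order of a parabolic subgroup of `GL_n(q)` and the `q`-multinomial formula for its index.
-/

set_option autoImplicit false

namespace Cfsg.Agent.Lib.GLFlag

open Finset Cfsg Matrix

variable {n : ℕ} {F : Type*} [Field F] [Fintype F]

/-- the `q`-integer -/
def qInt (q r : ℕ) : ℕ := ∑ l ∈ range r, q ^ l

/-- the `q`-factorial -/
def qFac (q r : ℕ) : ℕ := ∏ j ∈ range r, qInt q (j + 1)

lemma qInt_mul_add_one (q r : ℕ) (hq : 1 ≤ q) : qInt q r * (q - 1) + 1 = q ^ r := by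
  obtain ⟨x, rfl⟩ : ∃ x, q = x + 1 := ⟨q - 1, by omega⟩
  simpa [qInt] using geom_sum_mul_add x r

omit [Fintype F] in
lemma card_GL_prod (q k : ℕ) (hq : 1 ≤ q) :
    ∏ i : Fin k, (q ^ k - q ^ (i : ℕ)) = q ^ (k.choose 2) * (q - 1) ^ k * qFac q k := by
  rw [Fin.prod_univ_eq_prod_range (fun i => q ^ k - q ^ i) k]
  have e : ∀ i ∈ range k, q ^ k - q ^ i = q ^ i * ((q - 1) * qInt q (k - 1 - i + 1)) := by
    intro i hi
    have hi' : i < k := mem_range.1 hi
    have h1 : k - 1 - i + 1 = k - i := by omega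
    rw [h1]
    have h2 := qInt_mul_add_one q (k - i) hq
    have h3 : q ^ k = q ^ i * q ^ (k - i) := by
      rw [← pow_add]; congr 1; omega
    rw [h3, ← h2]
    have : q ^ i * (qInt q (k - i) * (q - 1) + 1) - q ^ i = q ^ i * (qInt q (k - i) * (q - 1)) := by
      rw [mul_add, mul_one, Nat.add_sub_cancel]
    rw [this]
    ring
  rw [prod_congr rfl e, prod_mul_distrib, prod_mul_distrib, prod_pow_eq_pow_sum, sum_range_id,
    Nat.choose_two_right, prod_const, card_range, qFac]
  rw [prod_range_reflect (fun j => qInt q (j + 1)) k, mul_assoc]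

lemma card_GL_fin (k : ℕ) :
    Nat.card (GL (Fin k) F) =
      (Fintype.card F) ^ (k.choose 2) * (Fintype.card F - 1) ^ k * qFac (Fintype.card F) k := by
  rw [Matrix.card_GL_field]
  exact card_GL_prod _ k Fintype.card_pos

lemma card_GL_of_card {ι : Type*} [Fintype ι] [DecidableEq ι] (k : ℕ) (hk : Fintype.card ι = k) :
    Nat.card {B : Matrix ι ι F // IsUnit B.det} =
      (Fintype.card F) ^ (k.choose 2) * (Fintype.card F - 1) ^ k * qFac (Fintype.card F) k := by
  rw [← card_GL_fin (F := F) k]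
  let e : ι ≃ Fin k := Fintype.equivFinOfCardEq hk
  let E : GL ι F ≃* GL (Fin k) F := Units.mapEquiv (Matrix.reindexAlgEquiv F F e).toMulEquiv
  rw [← Nat.card_congr E.toEquiv]
  apply Nat.card_congr
  exact
    { toFun := fun B => ((Matrix.isUnit_iff_isUnit_det B.1).2 B.2).unit
      invFun := fun u => ⟨u.1, (Matrix.isUnit_iff_isUnit_det _).1 u.isUnit⟩
      left_inv := fun B => by
        apply Subtype.ext
        rfl
      right_inv := fun u => by
        ext1
        rfl }

section Par

variable (a : Fin n → Fin n)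

/-- block triangular invertible matrices. -/
abbrev TSet (F : Type*) [Field F] [Fintype F] : Type _ :=
  {M : Matrix (Fin n) (Fin n) F // M.BlockTriangular a ∧ IsUnit M.det}

/-- Data of a block triangular invertible matrix. -/
abbrev YSet (F : Type*) [Field F] [Fintype F] : Type _ :=
  (∀ t : Fin n, {B : Matrix {i // a i = t} {i // a i = t} F // IsUnit B.det}) ×
    ({p : Fin n × Fin n // a p.1 < a p.2} → F)

/-- The equivalence with the data. -/
noncomputable def tEquivY : TSet a F ≃ YSet a F where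
  toFun M := (fun t => ⟨M.1.toSquareBlock a t, by
      have h1 := M.2.1.det
      have h2 : M.1.det ≠ 0 := M.2.2.ne_zero
      rw [h1, prod_ne_zero_iff] at h2
      by_cases ht : t ∈ univ.image a
      · exact (h2 t ht).isUnit
      · haveI : IsEmpty {i // a i = t} := ⟨fun i => ht (mem_image.2 ⟨i.1, mem_univ _, i.2⟩)⟩
        rw [Matrix.det_isEmpty]
        exact isUnit_one⟩,
    fun p => M.1 p.1.1 p.1.2)
  invFun Y := ⟨Matrix.of fun i j =>
      if h : a i = a j then (Y.1 (a i)).1 ⟨i, rfl⟩ ⟨j, h.symm⟩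
      else if h' : a i < a j then Y.2 ⟨(i, j), h'⟩ else 0, by
    have hB : ∀ t, (Matrix.of fun i j =>
      if h : a i = a j then (Y.1 (a i)).1 ⟨i, rfl⟩ ⟨j, h.symm⟩
      else if h' : a i < a j then Y.2 ⟨(i, j), h'⟩ else 0 : Matrix (Fin n) (Fin n) F).toSquareBlock a t
        = (Y.1 t).1 := by
      intro t
      ext ⟨x, hx⟩ ⟨y, hy⟩
      subst hx
      have hy' : a x = a y := hy.symm
      simp only [Matrix.toSquareBlock, Matrix.toSquareBlockProp, Matrix.toBlock_apply, Matrix.of_apply]
      rw [dif_pos hy']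
    have hT : (Matrix.of fun i j =>
      if h : a i = a j then (Y.1 (a i)).1 ⟨i, rfl⟩ ⟨j, h.symm⟩
      else if h' : a i < a j then Y.2 ⟨(i, j), h'⟩ else 0 : Matrix (Fin n) (Fin n) F).BlockTriangular a := by
      intro i j hij
      simp only [Matrix.of_apply]
      rw [dif_neg (ne_of_gt hij), dif_neg (not_lt.2 hij.le)]
    refine ⟨hT, ?_⟩
    rw [hT.det, prod_congr rfl fun t _ => by rw [hB t]]
    rw [isUnit_iff_ne_zero, prod_ne_zero_iff]
    exact fun t _ => (Y.1 t).2.ne_zero⟩
  left_inv M := by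
    apply Subtype.ext
    ext i j
    simp only [Matrix.of_apply]
    by_cases h : a i = a j
    · rw [dif_pos h]
      rfl
    · by_cases h' : a i < a j
      · rw [dif_neg h, dif_pos h']
      · rw [dif_neg h, dif_neg h']
        exact (M.2.1 (lt_of_le_of_ne (not_lt.1 h') (Ne.symm h))).symm
  right_inv Y := by
    apply Prod.ext
    · funext t
      apply Subtype.ext
      ext ⟨x, hx⟩ ⟨y, hy⟩
      subst hx
      have hy' : a x = a y := hy.symm
      simp only [Matrix.toSquareBlock, Matrix.toSquareBlockProp, Matrix.toBlock_apply, Matrix.of_apply]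
      rw [dif_pos hy']
    · funext p
      obtain ⟨⟨i, j⟩, hp⟩ := p
      simp only [Matrix.of_apply]
      rw [dif_neg (ne_of_lt hp), dif_pos hp]

end Par

/-- Number of pairs `i < j` in a finset of a linear order. -/
lemma card_lt_pairs {α : Type*} [LinearOrder α] (S : Finset α) :
    ((S ×ˢ S).filter fun p => p.1 < p.2).card = S.card.choose 2 := by
  induction S using Finset.induction_on_max with
  | empty => simp
  | insert m S hm ih =>
    have hmS : m ∉ S := fun h => lt_irrefl _ (hm m h)
    have e : ((insert m S ×ˢ insert m S).filter fun p => p.1 < p.2) =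
        ((S ×ˢ S).filter fun p => p.1 < p.2) ∪ S.image (fun x => (x, m)) := by
      ext ⟨x, y⟩
      simp only [mem_filter, mem_product, mem_insert, mem_union, mem_image, Prod.mk.injEq]
      constructor
      · rintro ⟨⟨hx | hx, hy | hy⟩, hxy⟩
        · subst hx; subst hy; exact absurd hxy (lt_irrefl _)
        · subst hx; exact absurd (hm y hy) (not_lt.2 hxy.le)
        · subst hy; exact Or.inr ⟨x, hx, rfl, rfl⟩
        · exact Or.inl ⟨⟨hx, hy⟩, hxy⟩
      · rintro (⟨⟨hx, hy⟩, hxy⟩ | ⟨z, hz, rfl, rfl⟩)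
        · exact ⟨⟨Or.inr hx, Or.inr hy⟩, hxy⟩
        · exact ⟨⟨Or.inr hz, Or.inl rfl⟩, hm z hz⟩
    have hd : Disjoint ((S ×ˢ S).filter fun p => p.1 < p.2) (S.image (fun x => (x, m))) := by
      rw [disjoint_left]
      rintro ⟨x, y⟩ h1 h2
      simp only [mem_filter, mem_product] at h1
      simp only [mem_image, Prod.mk.injEq] at h2
      obtain ⟨z, _, rfl, rfl⟩ := h2
      exact hmS h1.1.2
    rw [e, card_union_of_disjoint hd, ih, card_image_of_injective _ (fun x y h => (Prod.mk.inj h).1),
      card_insert_of_notMem hmS, Nat.choose_succ_succ' S.card 1, Nat.choose_one_right, add_comm]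

/-- The exponent identity. -/
lemma sum_choose_add_pairs (a : Fin n → Fin n) (ha : Monotone a) :
    (∑ t : Fin n, ((univ.filter fun i => a i = t).card).choose 2) +
      Fintype.card {p : Fin n × Fin n // a p.1 < a p.2} = n.choose 2 := by
  classical
  have h0 : n.choose 2 = (((univ : Finset (Fin n)) ×ˢ univ).filter fun p => p.1 < p.2).card := by
    rw [card_lt_pairs]; simp
  rw [h0, Fintype.card_subtype]
  -- split the pairs by equality of labels
  have hsplit : (((univ : Finset (Fin n)) ×ˢ univ).filter fun p => p.1 < p.2) =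
      (((univ : Finset (Fin n)) ×ˢ univ).filter fun p => p.1 < p.2 ∧ a p.1 = a p.2) ∪
        (univ.filter fun p : Fin n × Fin n => a p.1 < a p.2) := by
    ext ⟨i, j⟩
    simp only [mem_filter, mem_product, mem_univ, true_and, mem_union]
    constructor
    · intro h
      rcases eq_or_lt_of_le (ha h.le) with h1 | h1
      · exact Or.inl ⟨h, h1⟩
      · exact Or.inr h1
    · rintro (h | h)
      · exact h.1
      · by_contra hc
        exact absurd (ha (not_lt.1 hc)) (not_le.2 h)
  have hdisj : Disjoint (((univ : Finset (Fin n)) ×ˢ univ).filter fun p => p.1 < p.2 ∧ a p.1 = a p.2)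
      (univ.filter fun p : Fin n × Fin n => a p.1 < a p.2) := by
    rw [disjoint_left]
    rintro ⟨i, j⟩ h1 h2
    simp only [mem_filter, mem_product, mem_univ, true_and] at h1 h2
    exact absurd h2 (by rw [h1.2]; exact lt_irrefl _)
  rw [hsplit, card_union_of_disjoint hdisj]
  congr 1
  -- the equal labels part
  rw [card_eq_sum_card_fiberwise (s := (((univ : Finset (Fin n)) ×ˢ univ).filter fun p => p.1 < p.2 ∧ a p.1 = a p.2))
    (f := fun p => a p.1) (t := univ) (fun _ _ => by simp)]
  refine sum_congr rfl fun t _ => ?_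
  rw [← card_lt_pairs]
  congr 1
  ext ⟨i, j⟩
  simp only [mem_filter, mem_product, mem_univ, true_and]
  constructor
  · rintro ⟨⟨h1, h2⟩, h3⟩
    exact ⟨⟨h3, h1.trans h2.symm⟩, h1⟩
  · rintro ⟨⟨h1, h2⟩, h3⟩
    exact ⟨⟨h3, h2.symm.trans h3⟩, h1⟩

/-- The label as a map to `Fin n`. -/
def labF (μ : Fin n → ℕ) (hμ : ∑ i, μ i = n) (i : Fin n) : Fin n := ⟨compLabel μ i, compLabel_lt μ hμ i⟩

lemma labF_mono (μ : Fin n → ℕ) (hμ : ∑ i, μ i = n) : Monotone (labF μ hμ) :=
  fun _ _ h => compLabel_mono μ h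

lemma card_labF_fiber (μ : Fin n → ℕ) (hμ : ∑ i, μ i = n) (t : Fin n) :
    (univ.filter fun i => labF μ hμ i = t).card = μ t := by
  rw [← card_label_fiber μ hμ t]
  congr 1
  ext i
  simp [labF, Fin.ext_iff]

/-- The order of the parabolic subgroup. -/
theorem card_parabolic (μ : Fin n → ℕ) (hμ : ∑ i, μ i = n) :
    Nat.card (parabolicGL n F μ) =
      (Fintype.card F) ^ (n.choose 2) * (Fintype.card F - 1) ^ n *
        ∏ t : Fin n, qFac (Fintype.card F) (μ t) := by
  classical
  set a := labF μ hμ with ha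
  have hbt : ∀ M : Matrix (Fin n) (Fin n) F, M.BlockTriangular a ↔ M.BlockTriangular (compLabel μ) :=
    fun M => Iff.rfl
  have e1 : Nat.card (parabolicGL n F μ) = Nat.card (TSet a F) := by
    apply Nat.card_congr
    exact
      { toFun := fun g => ⟨g.1.1, (hbt _).2 g.2, (Matrix.isUnit_iff_isUnit_det _).1 g.1.isUnit⟩
        invFun := fun M => ⟨((Matrix.isUnit_iff_isUnit_det M.1).2 M.2.2).unit, (hbt _).1 M.2.1⟩
        left_inv := fun g => by
          apply Subtype.ext
          ext1
          rfl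
        right_inv := fun M => by
          apply Subtype.ext
          rfl }
  rw [e1, Nat.card_congr (tEquivY a (F := F))]
  unfold YSet
  rw [Nat.card_prod, Nat.card_pi]
  have e2 : ∀ t : Fin n, Nat.card {B : Matrix {i // a i = t} {i // a i = t} F // IsUnit B.det} =
      (Fintype.card F) ^ ((μ t).choose 2) * (Fintype.card F - 1) ^ (μ t) * qFac (Fintype.card F) (μ t) := by
    intro t
    apply card_GL_of_card
    rw [Fintype.card_subtype]
    exact card_labF_fiber μ hμ t
  simp_rw [e2]
  rw [Nat.card_fun, Nat.card_eq_fintype_card, Nat.card_eq_fintype_card]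
  rw [prod_mul_distrib, prod_mul_distrib, prod_pow_eq_pow_sum, prod_pow_eq_pow_sum, hμ]
  have e3 := sum_choose_add_pairs a (labF_mono μ hμ)
  have e4 : ∀ t, (univ.filter fun i => a i = t).card = μ t := card_labF_fiber μ hμ
  simp_rw [e4] at e3
  rw [← e3, pow_add]
  ring

/-- The `q`-multinomial formula. -/
theorem index_parabolic (μ : Fin n → ℕ) (hμ : ∑ i, μ i = n) :
    Nat.card (GL (Fin n) F ⧸ parabolicGL n F μ) * ∏ t : Fin n, qFac (Fintype.card F) (μ t) =
      qFac (Fintype.card F) n := by
  classical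
  have h1 := Subgroup.card_mul_index (parabolicGL n F μ)
  rw [Subgroup.index, card_parabolic μ hμ, card_GL_fin] at h1
  have hq : 0 < Fintype.card F := Fintype.card_pos
  have hq1 : 0 < Fintype.card F - 1 := by
    have := Fintype.one_lt_card (α := F)
    omega
  have hpos : 0 < (Fintype.card F) ^ (n.choose 2) * (Fintype.card F - 1) ^ n := by positivity
  apply Nat.eq_of_mul_eq_mul_left hpos
  rw [← h1]
  ring

end Cfsg.Agent.Lib.GLFlag
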