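import Cfsg.Agent.Lib.GLFlag.DoubleCoset
import Cfsg.Agent.Lib.GLFlag.Index
import Cfsg.Agent.Lib.Char.PermChar
import Cfsg.Agent.Lib.Char.Ops

/-!
The partition-indexed characters of `GL_n(q)`: orthonormality, degrees, irreducibility.
-/

set_option autoImplicit false

namespace Cfsg.Agent.Lib.GLFlag

open Finset Cfsg

universe u

variable {F : Type u} [Field F] [Fintype F] {n : ℕ}

lemma sum_comp (ν : Fin n → ℕ) (hν : ∑ i, ν i = n) (κ : Equiv.Perm (Fin n))
    (hκ : ∀ i, (κ i).val ≤ ν i + i.val) : ∑ i, (ν i + i.val - (κ i).val) = n := by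
  have h1 : ∑ i, (κ i).val = ∑ i : Fin n, i.val := Equiv.sum_comp κ (fun i : Fin n => i.val)
  have h2 : ∑ i, (ν i + i.val - (κ i).val) + ∑ i, (κ i).val = ∑ i, (ν i + i.val) := by
    rw [← sum_add_distrib]
    exact sum_congr rfl fun i _ => Nat.sub_add_cancel (hκ i)
  rw [sum_add_distrib, hν, h1] at h2
  omega

lemma strictMono_add (ν : Fin n → ℕ) (hν : Monotone ν) : StrictMono fun i : Fin n => ν i + i.val := by
  intro i j hij
  have h1 := hν hij.le
  have h2 : i.val < j.val := hij
  show ν i + i.val < ν j + j.val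
  omega

lemma sum_sign_ite (l lam : Fin n → ℕ) (hl : StrictMono l) (hlam : StrictMono lam) :
    (∑ σ : Equiv.Perm (Fin n), ((Equiv.Perm.sign σ : ℤ)) * (if ∀ i, l (σ i) = lam i then 1 else 0) : ℤ) =
      if l = lam then 1 else 0 := by
  classical
  rw [Finset.sum_eq_single (1 : Equiv.Perm (Fin n))]
  · simp only [Equiv.Perm.sign_one, Units.val_one, Int.cast_one, one_mul, Equiv.Perm.one_apply, funext_iff]
    congr
  · intro σ _ hσ
    rw [if_neg, mul_zero]
    intro h
    apply hσ
    have hs : StrictMono σ := by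
      intro i j hij
      have : l (σ i) < l (σ j) := by rw [h, h]; exact hlam hij
      exact hl.lt_iff_lt.1 this
    have : (σ : Fin n → Fin n) = id :=
      (hs.range_inj strictMono_id).1 (by simp [σ.surjective.range_eq])
    exact Equiv.ext fun i => by simpa using congrFun this i
  · simp

variable (F) in
/-- The inner product of the permutation characters on flags. -/
theorem inner_flag [Fintype (GL (Fin n) F)] (μ ν : Fin n → ℕ) (hμ : ∑ i, μ i = n) (hν : ∑ i, ν i = n) :
    (Nat.card (GL (Fin n) F) : ℂ)⁻¹ * ∑ g : GL (Fin n) F,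
      fixedPointCharacter (parabolicGL n F μ) g * fixedPointCharacter (parabolicGL n F ν) g =
      matCount μ ν := by
  rw [inner_fix, card_orbits_GL μ ν hμ hν]

/-- Orthonormality of the partition-indexed functions. -/
theorem inner_unipotent [Fintype (GL (Fin n) F)] (ν ν' : Fin n → ℕ) (hν : Monotone ν) (hs : ∑ i, ν i = n)
    (hν' : Monotone ν') (hs' : ∑ i, ν' i = n) :
    (Nat.card (GL (Fin n) F) : ℂ)⁻¹ * ∑ g : GL (Fin n) F,
      unipotentCharacterGL n F ν g * unipotentCharacterGL n F ν' g = if ν = ν' then 1 else 0 := by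
  classical
  have hjt := jt_identity (fun i => ν' i + i.val) (fun i => ν i + i.val)
  rw [sum_sign_ite _ _ (strictMono_add ν' hν') (strictMono_add ν hν)] at hjt
  have hif : ((fun i : Fin n => ν' i + i.val) = fun i => ν i + i.val) ↔ ν = ν' := by
    rw [funext_iff, funext_iff]
    constructor
    · intro h i
      have := h i
      omega
    · intro h i
      rw [h i]
  simp only [hif] at hjt
  have hjt' := congrArg (fun z : ℤ => (z : ℂ)) hjt
  simp only [Int.cast_ite, Int.cast_one, Int.cast_zero] at hjt'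
  rw [hjt']
  simp only [unipotentCharacterGL]
  simp_rw [sum_mul_sum]
  rw [sum_comm, mul_sum, Int.cast_sum]
  refine sum_congr rfl fun κ _ => ?_
  rw [sum_comm, mul_sum, Int.cast_sum]
  refine sum_congr rfl fun τ _ => ?_
  by_cases h1 : ∀ i, (κ i).val ≤ ν i + i.val
  · by_cases h2 : ∀ j, (τ j).val ≤ ν' j + j.val
    · simp only [if_pos h1, if_pos h2, if_pos (And.intro h1 h2)]
      have hm := inner_flag F (fun i => ν i + i.val - (κ i).val) (fun i => ν' i + i.val - (τ i).val)
        (sum_comp ν hs κ h1) (sum_comp ν' hs' τ h2)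
      push_cast
      rw [← hm]
      simp only [mul_sum]
      refine sum_congr rfl fun g _ => ?_
      ring
    · simp only [if_neg h2, if_neg (fun h : (∀ i, (κ i).val ≤ ν i + i.val) ∧ _ => h2 h.2)]
      simp
  · simp only [if_neg h1, if_neg (fun h : (∀ i, (κ i).val ≤ ν i + i.val) ∧ _ => h1 h.1)]
    simp

/-- The partition-indexed functions are generalized characters. -/
theorem isGeneralized_unipotent [Fintype (GL (Fin n) F)] (ν : Fin n → ℕ) :
    IsGeneralizedCharacter (GL (Fin n) F) (unipotentCharacterGL n F ν) := by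
  classical
  have h : unipotentCharacterGL n F ν = ∑ κ : Equiv.Perm (Fin n),
      (if ∀ i : Fin n, (κ i).val ≤ ν i + i.val then
        (((Equiv.Perm.sign κ : ℤ) : ℂ)) • fixedPointCharacter
          (parabolicGL n F fun i => ν i + i.val - (κ i).val) else 0) := by
    funext g
    simp only [unipotentCharacterGL, Finset.sum_apply]
    refine sum_congr rfl fun κ _ => ?_
    split_ifs <;> simp
  rw [h]
  apply Cfsg.Agent.Lib.Char.IsGeneralizedCharacter.sum
  intro κ _
  split_ifs
  · apply Cfsg.Agent.Lib.Char.IsGeneralizedCharacter.intCast_smul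
    apply Cfsg.Agent.Lib.Char.IsGeneralizedCharacter.of_isCharacter
    exact Cfsg.Agent.Lib.Char.permChar_isCharacter (G := GL (Fin n) F) (GL (Fin n) F ⧸ _)
  · exact Cfsg.Agent.Lib.Char.IsGeneralizedCharacter.zero

/-- The functions are real. -/
lemma conj_unipotent (ν : Fin n → ℕ) (g : GL (Fin n) F) :
    (starRingEnd ℂ) (unipotentCharacterGL n F ν g) = unipotentCharacterGL n F ν g := by
  simp only [unipotentCharacterGL, map_sum]
  refine sum_congr rfl fun κ _ => ?_
  split_ifs
  · simp [fixedPointCharacter]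
  · simp

end Cfsg.Agent.Lib.GLFlag
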