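import Cfsg.Agent.Lib.GLFlag.Degree
import Cfsg.Agent.Lib.BNSt.Pelt

/-!
The partition-indexed characters of `GL_n(q)` on the projective special linear group.
-/

set_option autoImplicit false

namespace Cfsg.Agent.Lib.GLFlag

open Finset Cfsg
open scoped MatrixGroups

universe u

variable {F : Type u} [Field F] {n : ℕ}

/-- The special linear group. -/
abbrev SLn (n : ℕ) (F : Type u) [Field F] := Matrix.SpecialLinearGroup (Fin n) F

/-- The projective special linear group. -/
abbrev PSLn (n : ℕ) (F : Type u) [Field F] := Matrix.ProjectiveSpecialLinearGroup (Fin n) F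

/-- The inclusion of `SL` in `GL`. -/
def iSL : SLn n F →* GL (Fin n) F := Matrix.SpecialLinearGroup.toGL

/-- The projection of `SL` onto `PSL`. -/
def pSL : SLn n F →* PSLn n F := QuotientGroup.mk' _

lemma pSL_surj : Function.Surjective (pSL (n := n) (F := F)) := QuotientGroup.mk'_surjective _

lemma iSL_inj : Function.Injective (iSL (n := n) (F := F)) := by
  intro a b e
  apply Subtype.ext
  exact congrArg Units.val e

lemma iSL_val (e : SLn n F) : ((iSL e : GL (Fin n) F) : Matrix (Fin n) (Fin n) F) = e.1 := rfl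

lemma exists_SL {g : GL (Fin n) F} (h : (g : Matrix (Fin n) (Fin n) F).det = 1) : ∃ e : SLn n F, iSL e = g :=
  ⟨⟨g.val, h⟩, Units.ext rfl⟩

/-- A diagonal element of `GL`. -/
def diagGL (d : Fin n → Fˣ) : GL (Fin n) F where
  val := Matrix.diagonal fun i => (d i : F)
  inv := Matrix.diagonal fun i => ((d i)⁻¹ : Fˣ)
  val_inv := by
    rw [Matrix.diagonal_mul_diagonal]
    simp
  inv_val := by
    rw [Matrix.diagonal_mul_diagonal]
    simp

lemma diagGL_val (d : Fin n → Fˣ) : ((diagGL d : GL (Fin n) F) : Matrix (Fin n) (Fin n) F) =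
    Matrix.diagonal fun i => (d i : F) := rfl

lemma diagGL_mem (d : Fin n → Fˣ) (μ : Fin n → ℕ) : diagGL d ∈ parabolicGL n F μ := by
  show ((diagGL d : GL (Fin n) F) : Matrix (Fin n) (Fin n) F).BlockTriangular (compLabel μ)
  rw [diagGL_val]
  exact Matrix.blockTriangular_diagonal _

lemma perm_diag (w : Equiv.Perm (Fin n)) (d : Fin n → Fˣ) :
    (permGL F w)⁻¹ * diagGL d * permGL F w = diagGL (d ∘ w) := by
  have h : diagGL d * permGL F w = permGL F w * diagGL (d ∘ w) := by
    apply Units.ext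
    ext i j
    simp only [Units.val_mul, diagGL_val, permGL_coe, Matrix.diagonal_mul, Matrix.mul_diagonal, permM,
      Matrix.of_apply, Function.comp]
    by_cases hij : i = w j
    · subst hij
      simp
    · simp [hij]
  rw [mul_assoc, h]
  group

/-- Diagonal elements of any determinant. -/
lemma exists_diag (hn : 0 < n) (c : Fˣ) : ∃ d : Fin n → Fˣ,
    ((diagGL d : GL (Fin n) F) : Matrix (Fin n) (Fin n) F).det = c := by
  classical
  refine ⟨Function.update 1 ⟨0, hn⟩ c, ?_⟩
  rw [diagGL_val, Matrix.det_diagonal]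
  rw [Finset.prod_eq_single (⟨0, hn⟩ : Fin n)]
  · simp
  · intro b _ hb
    simp [Function.update_of_ne hb]
  · simp

lemma det_ne_zero (g : GL (Fin n) F) : (g : Matrix (Fin n) (Fin n) F).det ≠ 0 := by
  have := (Matrix.isUnit_iff_isUnit_det _).1 g.isUnit
  exact this.ne_zero

lemma det_perm_ne (g : GL (Fin n) F) : ∃ c : Fˣ, (c : F) = ((g : Matrix (Fin n) (Fin n) F).det)⁻¹ :=
  ⟨Units.mk0 _ (inv_ne_zero (det_ne_zero g)), rfl⟩

/-- A complete invariant for the double cosets of parabolic subgroups. -/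
theorem exists_tau (μ ν : Fin n → ℕ) (hμ : ∑ i, μ i = n) (hν : ∑ i, ν i = n) :
    ∃ τ : GL (Fin n) F → Fin n → Fin n → ℕ,
      (∀ (p q : GL (Fin n) F) (w), p ∈ parabolicGL n F μ → q ∈ parabolicGL n F ν →
        τ (p * permGL F w * q) = relPos (compLabel μ) (compLabel ν) w) ∧
      (∀ p ∈ parabolicGL n F μ, ∀ g, ∀ q ∈ parabolicGL n F ν, τ (p * g * q) = τ g) ∧
      (∀ g g', τ g = τ g' → ∃ p ∈ parabolicGL n F μ, ∃ q ∈ parabolicGL n F ν, g' = p * g * q) := by
  classical
  choose W P Q hP hQ hg using exists_double (F := F) μ ν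
  let τ : GL (Fin n) F → Fin n → Fin n → ℕ := fun g => relPos (compLabel μ) (compLabel ν) (W g)
  have hτw : ∀ (p q : GL (Fin n) F) (w), p ∈ parabolicGL n F μ → q ∈ parabolicGL n F ν →
      τ (p * permGL F w * q) = relPos (compLabel μ) (compLabel ν) w := by
    intro p q w hp hq
    set g := p * permGL F w * q with hg'
    have h1 : permGL F (W g) = ((P g)⁻¹ * p) * permGL F w * (q * (Q g)⁻¹) := by
      have := hg g
      calc permGL F (W g) = (P g)⁻¹ * (P g * permGL F (W g) * Q g) * (Q g)⁻¹ := by group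
        _ = (P g)⁻¹ * g * (Q g)⁻¹ := by rw [← this]
        _ = _ := by rw [hg']; group
    exact relPos_eq_of_double (mul_mem (inv_mem (hP g)) hp) (mul_mem hq (inv_mem (hQ g))) h1
  refine ⟨τ, hτw, ?_, ?_⟩
  · intro p hp g q hq
    have e : p * g * q = (p * P g) * permGL F (W g) * (Q g * q) := by
      conv_lhs => rw [hg g]
      group
    rw [e, hτw _ _ _ (mul_mem hp (hP g)) (mul_mem (hQ g) hq)]
  · intro g g' h
    obtain ⟨u, v, hu, hv, hw⟩ := exists_young (compLabel_lt μ hμ) (compLabel_lt ν hν) h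
    refine ⟨P g' * permGL F u * (P g)⁻¹, ?_, (Q g)⁻¹ * permGL F v * Q g', ?_, ?_⟩
    · exact mul_mem (mul_mem (hP g') (permGL_mem_of_young hu)) (inv_mem (hP g))
    · exact mul_mem (mul_mem (inv_mem (hQ g)) (permGL_mem_of_young hv)) (hQ g')
    · have e1 := hg g
      have e2 := hg g'
      calc g' = P g' * permGL F (W g') * Q g' := e2
        _ = P g' * (permGL F u * permGL F (W g) * permGL F v) * Q g' := by
            rw [hw, map_mul, map_mul]
        _ = P g' * permGL F u * (P g)⁻¹ * (P g * permGL F (W g) * Q g) * ((Q g)⁻¹ * permGL F v * Q g') := by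
            group
        _ = _ := by rw [← e1]

/-- The parabolic subgroup of `SL`. -/
def parSL (F : Type u) [Field F] (μ : Fin n → ℕ) : Subgroup (SLn n F) := (parabolicGL n F μ).comap iSL

/-- The parabolic subgroup of `PSL`. -/
def parPSL (F : Type u) [Field F] (μ : Fin n → ℕ) : Subgroup (PSLn n F) := (parSL F μ).map pSL

lemma center_le_parSL (μ : Fin n → ℕ) : Subgroup.center (SLn n F) ≤ parSL F μ := by
  intro z hz
  obtain ⟨r, -, hr⟩ := Matrix.SpecialLinearGroup.mem_center_iff.1 hz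
  show ((iSL z : GL (Fin n) F) : Matrix (Fin n) (Fin n) F).BlockTriangular (compLabel μ)
  rw [iSL_val, ← hr]
  exact Matrix.blockTriangular_diagonal _

lemma mem_parPSL_iff {μ : Fin n → ℕ} {e : SLn n F} : pSL e ∈ parPSL F μ ↔ e ∈ parSL F μ := by
  constructor
  · rintro ⟨e', he', h⟩
    have h1 : e'⁻¹ * e ∈ Subgroup.center (SLn n F) := by
      exact QuotientGroup.eq.1 h
    have h2 := center_le_parSL μ h1
    have e2 : e = e' * (e'⁻¹ * e) := by group
    rw [e2]
    exact mul_mem he' h2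
  · exact fun h => ⟨e, h, rfl⟩

/-- The number of orbits of `PSL_n(F)` on pairs of flags. -/
theorem card_orbits_PSL (hn : 0 < n) (μ ν : Fin n → ℕ) (hμ : ∑ i, μ i = n) (hν : ∑ i, ν i = n) :
    Nat.card (MulAction.orbitRel.Quotient (PSLn n F)
      ((PSLn n F ⧸ parPSL F μ) × (PSLn n F ⧸ parPSL F ν))) = matCount μ ν := by
  classical
  obtain ⟨τ, h1, h2, h3⟩ := exists_tau (F := F) μ ν hμ hν
  choose o ho using pSL_surj (n := n) (F := F)
  have hro : ∀ e : SLn n F, τ (iSL (o (pSL e))) = τ (iSL e) := by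
    intro e
    have h4 : e⁻¹ * o (pSL e) ∈ Subgroup.center (SLn n F) := QuotientGroup.eq.1 (ho (pSL e)).symm
    have h5 : iSL (o (pSL e)) = 1 * iSL e * iSL (e⁻¹ * o (pSL e)) := by
      rw [one_mul, ← map_mul, mul_inv_cancel_left]
    rw [h5, h2 _ (one_mem _) _ _ (center_le_parSL ν h4)]
  let τ' : PSLn n F → Fin n → Fin n → ℕ := fun x => τ (iSL (o x))
  have hτ' : ∀ e, τ' (pSL e) = τ (iSL e) := hro
  have e0 : Nat.card (Set.range τ') = matCount μ ν := by
    rw [← card_range_relPos μ ν hμ hν]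
    congr 2
    ext m
    constructor
    · rintro ⟨x, rfl⟩
      obtain ⟨w, p, q, hp, hq, e⟩ := exists_double (F := F) μ ν (iSL (o x))
      refine ⟨w, ?_⟩
      show _ = τ (iSL (o x))
      rw [e, h1 _ _ _ hp hq]
    · rintro ⟨w, rfl⟩
      obtain ⟨c, hc⟩ := det_perm_ne (permGL F w : GL (Fin n) F)
      obtain ⟨d, hd⟩ := exists_diag hn c
      obtain ⟨e, he⟩ := exists_SL (g := permGL F w * diagGL d) (by
        rw [Units.val_mul, Matrix.det_mul, hd, hc, mul_inv_cancel₀ (det_ne_zero _)])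
      refine ⟨pSL e, ?_⟩
      rw [hτ', he]
      have := h1 1 (diagGL d) w (one_mem _) (diagGL_mem d ν)
      rwa [one_mul] at this
  rw [← e0]
  refine card_orbits_of_invariant (parPSL F μ) (parPSL F ν) τ' ?_ ?_
  · rintro _ ⟨p, hp, rfl⟩ g _ ⟨q, hq, rfl⟩
    obtain ⟨e, rfl⟩ := pSL_surj g
    rw [← map_mul, ← map_mul, hτ', hτ', map_mul, map_mul]
    exact h2 _ hp _ _ hq
  · intro g g' h
    obtain ⟨e, rfl⟩ := pSL_surj g
    obtain ⟨e', rfl⟩ := pSL_surj g'
    rw [hτ', hτ'] at h
    obtain ⟨p, hp, q, hq, e1⟩ := h3 _ _ h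
    -- adjust the determinants
    obtain ⟨w, p₁, q₁, hp₁, hq₁, e2⟩ := exists_double (F := F) μ ν (iSL e)
    obtain ⟨c, hc⟩ := det_perm_ne p
    obtain ⟨d, hd⟩ := exists_diag hn c
    set z := p₁ * diagGL d * p₁⁻¹ with hz
    have hz1 : z ∈ parabolicGL n F μ := mul_mem (mul_mem hp₁ (diagGL_mem d μ)) (inv_mem hp₁)
    have hz2 : (iSL e)⁻¹ * z * iSL e ∈ parabolicGL n F ν := by
      have e3 : (iSL e)⁻¹ * z * iSL e = q₁⁻¹ * ((permGL F w)⁻¹ * diagGL d * permGL F w) * q₁ := by
        rw [e2, hz]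
        group
      rw [e3, perm_diag]
      exact mul_mem (mul_mem (inv_mem hq₁) (diagGL_mem _ ν)) hq₁
    have hdetz : ((z : GL (Fin n) F) : Matrix (Fin n) (Fin n) F).det = c := by
      have h5 : ((p₁ * diagGL d * p₁⁻¹ : GL (Fin n) F) : Matrix (Fin n) (Fin n) F).det =
          ((diagGL d : GL (Fin n) F) : Matrix (Fin n) (Fin n) F).det := by
        rw [Units.val_mul, Units.val_mul, Matrix.det_mul, Matrix.det_mul, mul_comm,
          ← mul_assoc, ← Matrix.det_mul, ← Units.val_mul, inv_mul_cancel]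
        simp
      rw [hz, h5, hd]
    set p' := p * z with hp'
    set q' := ((iSL e)⁻¹ * z⁻¹ * iSL e) * q with hq'
    have e4 : iSL e' = p' * iSL e * q' := by
      rw [e1, hp', hq']
      group
    have hdetp : ((p' : GL (Fin n) F) : Matrix (Fin n) (Fin n) F).det = 1 := by
      rw [hp', Units.val_mul, Matrix.det_mul, hdetz, hc, mul_inv_cancel₀ (det_ne_zero _)]
    have hdetq : ((q' : GL (Fin n) F) : Matrix (Fin n) (Fin n) F).det = 1 := by
      have h6 := congrArg (fun g : GL (Fin n) F => (g : Matrix (Fin n) (Fin n) F).det) e4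
      simp only [Units.val_mul, Matrix.det_mul, iSL_val, e.2, e'.2, hdetp, one_mul, mul_one] at h6
      exact h6.symm
    obtain ⟨a, ha⟩ := exists_SL hdetp
    obtain ⟨b, hb⟩ := exists_SL hdetq
    refine ⟨pSL a, ⟨a, ?_, rfl⟩, pSL b, ⟨b, ?_, rfl⟩, ?_⟩
    · show iSL a ∈ parabolicGL n F μ
      rw [ha]
      exact mul_mem hp hz1
    · show iSL b ∈ parabolicGL n F ν
      rw [hb, hq']
      refine mul_mem ?_ hq
      have e5 : (iSL e)⁻¹ * z⁻¹ * iSL e = ((iSL e)⁻¹ * z * iSL e)⁻¹ := by group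
      rw [e5]
      exact inv_mem hz2
    · rw [← map_mul, ← map_mul]
      congr 1
      apply iSL_inj
      rw [map_mul, map_mul, ha, hb]
      exact e4

variable [Fintype F]

instance : Finite (PSLn n F) := by
  unfold PSLn
  unfold Matrix.ProjectiveSpecialLinearGroup
  infer_instance

/-- The index of the parabolic subgroup of `PSL`. -/
theorem card_quot_parPSL (hn : 0 < n) (μ : Fin n → ℕ) :
    Nat.card (PSLn n F ⧸ parPSL F μ) = Nat.card (GL (Fin n) F ⧸ parabolicGL n F μ) := by
  classical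
  have h1 := Cfsg.Agent.Lib.BNSt.card_fibers (X := PSLn n F ⧸ parPSL F μ)
    (fun e : SLn n F => (QuotientGroup.mk (pSL e))) (parSL F μ) (by
      intro a c
      rw [QuotientGroup.eq, ← map_inv, ← map_mul, mem_parPSL_iff]) (by
      intro x
      obtain ⟨y, rfl⟩ := QuotientGroup.mk_surjective x
      obtain ⟨e, rfl⟩ := pSL_surj y
      exact ⟨e, rfl⟩)
  have h2 := Cfsg.Agent.Lib.BNSt.card_fibers (X := GL (Fin n) F ⧸ parabolicGL n F μ)
    (fun e : SLn n F => (QuotientGroup.mk (iSL e))) (parSL F μ) (by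
      intro a c
      rw [QuotientGroup.eq, ← map_inv, ← map_mul]
      rfl) (by
      intro x
      obtain ⟨g, rfl⟩ := QuotientGroup.mk_surjective x
      obtain ⟨c, hc⟩ := det_perm_ne g
      obtain ⟨d, hd⟩ := exists_diag hn c
      obtain ⟨e, he⟩ := exists_SL (g := g * diagGL d) (by
        rw [Units.val_mul, Matrix.det_mul, hd, hc, mul_inv_cancel₀ (det_ne_zero _)])
      refine ⟨e, ?_⟩
      show (QuotientGroup.mk (iSL e) : GL (Fin n) F ⧸ parabolicGL n F μ) = _
      rw [he]
      refine QuotientGroup.eq.2 ?_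
      have e1 : (g * diagGL d)⁻¹ * g = (diagGL d)⁻¹ := by group
      rw [e1]
      exact inv_mem (diagGL_mem d μ))
  have h3 := h1.trans h2.symm
  exact Nat.eq_of_mul_eq_mul_right Nat.card_pos h3

/-- The inner product of the permutation characters on flags of `PSL_n`. -/
theorem inner_flag_PSL [Fintype (PSLn n F)] (hn : 0 < n) (μ ν : Fin n → ℕ) (hμ : ∑ i, μ i = n) (hν : ∑ i, ν i = n) :
    (Nat.card (PSLn n F) : ℂ)⁻¹ * ∑ g : PSLn n F,
      fixedPointCharacter (parPSL F μ) g * fixedPointCharacter (parPSL F ν) g =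
      matCount μ ν := by
  rw [inner_fix, card_orbits_PSL hn μ ν hμ hν]

variable (F) in
/-- The partition-indexed functions on `PSL`. -/
noncomputable def unipotentPSL (n : ℕ) (ν : Fin n → ℕ) : PSLn n F → ℂ :=
  fun g => ∑ κ : Equiv.Perm (Fin n),
    if ∀ i : Fin n, (κ i).val ≤ ν i + i.val then
      ((Equiv.Perm.sign κ : ℤ) : ℂ) * fixedPointCharacter (parPSL F fun i => ν i + i.val - (κ i).val) g
    else 0

/-- Orthonormality of the partition-indexed functions on `PSL`. -/
theorem inner_unipotentPSL [Fintype (PSLn n F)] (hn : 0 < n) (ν : Fin n → ℕ) (hν : Monotone ν) (hs : ∑ i, ν i = n) :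
    (Nat.card (PSLn n F) : ℂ)⁻¹ * ∑ g : PSLn n F,
      unipotentPSL F n ν g * unipotentPSL F n ν g = 1 := by
  classical
  have hjt := jt_identity (fun i => ν i + i.val) (fun i => ν i + i.val)
  rw [sum_sign_ite _ _ (strictMono_add ν hν) (strictMono_add ν hν)] at hjt
  simp only [if_true] at hjt
  have hjt' := congrArg (fun z : ℤ => (z : ℂ)) hjt
  simp only [Int.cast_one] at hjt'
  rw [hjt']
  simp only [unipotentPSL]
  simp_rw [sum_mul_sum]
  rw [sum_comm, mul_sum, Int.cast_sum]
  refine sum_congr rfl fun κ _ => ?_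
  rw [sum_comm, mul_sum, Int.cast_sum]
  refine sum_congr rfl fun τ _ => ?_
  by_cases h1 : ∀ i, (κ i).val ≤ ν i + i.val
  · by_cases h2 : ∀ j, (τ j).val ≤ ν j + j.val
    · simp only [if_pos h1, if_pos h2, if_pos (And.intro h1 h2)]
      have hm := inner_flag_PSL (F := F) hn (fun i => ν i + i.val - (κ i).val) (fun i => ν i + i.val - (τ i).val)
        (sum_comp ν hs κ h1) (sum_comp ν hs τ h2)
      push_cast
      rw [← hm]
      simp only [mul_sum]
      refine sum_congr rfl fun g _ => ?_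
      ring
    · simp only [if_neg h2, if_neg (fun h : (∀ i, (κ i).val ≤ ν i + i.val) ∧ _ => h2 h.2)]
      simp
  · simp only [if_neg h1, if_neg (fun h : (∀ i, (κ i).val ≤ ν i + i.val) ∧ _ => h1 h.1)]
    simp

/-- The partition-indexed functions on `PSL` are generalized characters. -/
theorem isGeneralized_unipotentPSL (ν : Fin n → ℕ) :
    IsGeneralizedCharacter (PSLn n F) (unipotentPSL F n ν) := by
  classical
  have h : unipotentPSL F n ν = ∑ κ : Equiv.Perm (Fin n),
      (if ∀ i : Fin n, (κ i).val ≤ ν i + i.val then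
        (((Equiv.Perm.sign κ : ℤ) : ℂ)) • fixedPointCharacter
          (parPSL F fun i => ν i + i.val - (κ i).val) else 0) := by
    funext g
    simp only [unipotentPSL, Finset.sum_apply]
    refine sum_congr rfl fun κ _ => ?_
    split_ifs <;> simp
  rw [h]
  apply Cfsg.Agent.Lib.Char.IsGeneralizedCharacter.sum
  intro κ _
  split_ifs
  · apply Cfsg.Agent.Lib.Char.IsGeneralizedCharacter.intCast_smul
    apply Cfsg.Agent.Lib.Char.IsGeneralizedCharacter.of_isCharacter
    exact Cfsg.Agent.Lib.Char.permChar_isCharacter (G := PSLn n F) (PSLn n F ⧸ _)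
  · exact Cfsg.Agent.Lib.Char.IsGeneralizedCharacter.zero

lemma conj_unipotentPSL (ν : Fin n → ℕ) (g : PSLn n F) :
    (starRingEnd ℂ) (unipotentPSL F n ν g) = unipotentPSL F n ν g := by
  simp only [unipotentPSL, map_sum]
  refine sum_congr rfl fun κ _ => ?_
  split_ifs
  · simp [fixedPointCharacter]
  · simp

/-- The degree. -/
theorem unipotentPSL_one (hn : 0 < n) (ν : Fin n → ℕ) : unipotentPSL F n ν 1 = unipotentCharacterGL n F ν 1 := by
  classical
  simp only [unipotentPSL, unipotentCharacterGL]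
  refine sum_congr rfl fun κ _ => ?_
  split_ifs
  · congr 1
    simp only [fixedPointCharacter, MulAction.fixedBy_one_eq_univ]
    rw [Nat.card_coe_set_eq, Nat.card_coe_set_eq, Set.ncard_univ, Set.ncard_univ, card_quot_parPSL hn]
  · rfl

/-- The partition-indexed functions on `PSL` are irreducible characters. -/
theorem isIrr_unipotentPSL (hn : 0 < n) (ν : Fin n → ℕ) (hmono : Monotone ν) (hsum : ∑ i, ν i = n) :
    IsIrrCharacter (PSLn n F) (unipotentPSL F n ν) := by
  classical
  letI : Fintype (PSLn n F) := Fintype.ofFinite _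
  refine Cfsg.Agent.Lib.Char.isIrr_of_generalized_norm_one
    (isGeneralized_unipotentPSL ν) ?_ (by rw [unipotentPSL_one hn]; exact degree_pos ν hmono hsum)
  have h := inner_unipotentPSL (F := F) hn ν hmono hsum
  rw [Cfsg.classInner, ← h]
  congr 1
  refine Finset.sum_congr rfl fun g _ => ?_
  rw [conj_unipotentPSL]

omit [Fintype F] in
/-- Double products over pairs in `Fin n`. -/
lemma prod_fin_pairs {M : Type*} [CommMonoid M] (n : ℕ) (g : ℕ → ℕ → M) :
    ∏ i : Fin n, ∏ j ∈ univ.filter (fun j : Fin n => i < j), g i j = ∏ j ∈ range n, ∏ t ∈ range j, g t j := by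
  classical
  rw [Finset.prod_comm' (s' := fun j : Fin n => univ.filter (fun i : Fin n => i < j)) (t' := univ)
    (by intro x y; simp)]
  rw [Fin.prod_univ_eq_prod_range (fun j => ∏ t ∈ range j, g t j) n |>.symm]
  refine prod_congr rfl fun j _ => ?_
  refine Finset.prod_bij (fun i _ => (i : ℕ)) ?_ ?_ ?_ ?_
  · intro i hi
    exact mem_range.2 (mem_filter.1 hi).2
  · intro a _ b _ e
    exact Fin.ext e
  · intro b hb
    have hb' := mem_range.1 hb
    exact ⟨⟨b, hb'.trans j.2⟩, mem_filter.2 ⟨mem_univ _, hb'⟩, rfl⟩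
  · intro a _
    rfl

/-- The degree of the function for the partition into ones. -/
theorem degree_St (q : ℕ) (hq : Fintype.card F = q) :
    unipotentCharacterGL n F (fun _ => 1) 1 = (q : ℂ) ^ (n.choose 2) := by
  classical
  have hq1 : 1 ≤ q := hq ▸ Fintype.card_pos
  have hq0 : (q : ℂ) ≠ 0 := by exact_mod_cast (by omega : q ≠ 0)
  have h := degree_formula (F := F) q hq (n := n) (fun _ => 1) (by simp)
  have h1 : ∏ i : Fin n, ∏ j ∈ univ.filter (fun j : Fin n => i < j),
      ((qInt q (1 + j.val) : ℂ) - qInt q (1 + i.val)) =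
      ∏ j ∈ range n, ∏ t ∈ range j, ((qInt q (1 + j) : ℂ) - qInt q (1 + t)) :=
    prod_fin_pairs n (fun i j => (qInt q (1 + j) : ℂ) - qInt q (1 + i))
  have h2 : ∀ j ∈ range n, ∏ t ∈ range j, ((qInt q (1 + j) : ℂ) - qInt q (1 + t)) =
      (q : ℂ) ^ (∑ t ∈ range j, (t + 1)) * qFac q j := by
    intro j _
    have h3 : ∀ t ∈ range j, ((qInt q (1 + j) : ℂ) - qInt q (1 + t)) = (q : ℂ) ^ (t + 1) * qInt q (j - 1 - t + 1) := by
      intro t ht
      have ht' := mem_range.1 ht
      have e1 : 1 + j = (1 + t) + (j - 1 - t + 1) := by omega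
      rw [e1, qInt_add]
      push_cast
      have : 1 + t = t + 1 := by omega
      rw [this]
      ring
    rw [prod_congr rfl h3, prod_mul_distrib, prod_pow_eq_pow_sum, qFac]
    congr 1
    push_cast
    exact prod_range_reflect (fun t => (qInt q (t + 1) : ℂ)) j
  rw [h1, prod_congr rfl h2, prod_mul_distrib, prod_pow_eq_pow_sum] at h
  have h3 : ∑ j ∈ range n, ∑ t ∈ range j, (t + 1) = n * (n - 1) * (n - 2) / 6 + n.choose 2 := by
    have e1 : ∀ j ∈ range n, ∑ t ∈ range j, (t + 1) = ∑ t ∈ range j, t + j := by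
      intro j _
      rw [sum_add_distrib]
      simp
    rw [sum_congr rfl e1, sum_add_distrib, sum_sum_id, sum_range_id, Nat.choose_two_right]
  rw [h3, pow_add] at h
  have h4 : ∏ i : Fin n, (qFac q (1 + i.val) : ℂ) = qFac q n * ∏ j ∈ range n, (qFac q j : ℂ) := by
    rw [Fin.prod_univ_eq_prod_range (fun i => (qFac q (1 + i) : ℂ)) n]
    have e2 : ∏ j ∈ range (n + 1), (qFac q j : ℂ) = ∏ j ∈ range n, (qFac q (j + 1) : ℂ) := by
      rw [prod_range_succ']
      simp [qFac]
    have e3 := prod_range_succ (fun j => (qFac q j : ℂ)) n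
    simp only [add_comm 1]
    rw [← e2, e3, mul_comm]
  rw [h4] at h
  have hne : (qFac q n : ℂ) * ∏ j ∈ range n, (qFac q j : ℂ) ≠ 0 := by
    refine mul_ne_zero ?_ (prod_ne_zero_iff.2 fun j _ => ?_)
    · exact_mod_cast (qFac_pos q n hq1).ne'
    · exact_mod_cast (qFac_pos q j hq1).ne'
  have hp : (q : ℂ) ^ (n * (n - 1) * (n - 2) / 6) ≠ 0 := pow_ne_zero _ hq0
  have h5 : unipotentCharacterGL n F (fun _ => 1) 1 * ((q : ℂ) ^ (n * (n - 1) * (n - 2) / 6) *
      ((qFac q n : ℂ) * ∏ j ∈ range n, (qFac q j : ℂ))) =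
      (q : ℂ) ^ (n.choose 2) * ((q : ℂ) ^ (n * (n - 1) * (n - 2) / 6) *
      ((qFac q n : ℂ) * ∏ j ∈ range n, (qFac q j : ℂ))) := by
    linear_combination h
  exact mul_right_cancel₀ (mul_ne_zero hp hne) h5

end Cfsg.Agent.Lib.GLFlag
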